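import Mathlib

/-!
Quadratic setup: `L` is generated by the conjugates of an abelian `p`-subgroup `Y`, the normal
`p`-subgroup `A` is generated by the conjugates of `Y ⊓ A`, and a proper overgroup of `Y` normalises
`Y`. Two elements from conjugates of `Y` generating no `p`-group have no common fixed point on
`A ⧸ (Y ⊓ Z(L))`.
-/

set_option autoImplicit false
set_option linter.unusedSectionVars false

namespace Cfsg.Agent.FrakL82

open Subgroup
open scoped commutatorElement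

set_option linter.style.haveILetI false

variable {L : Type*} [Group L] {p : ℕ}

/-- The hypotheses on `Y` and `A`. -/
structure Setup (p : ℕ) (Y A : Subgroup L) : Prop where
  comm : ∀ x ∈ Y, ∀ y ∈ Y, x * y = y * x
  pY : IsPGroup p Y
  pA : IsPGroup p A
  normA : A ≤ normalizer (Y : Set L)
  gen : A = normalClosure ((Y ⊓ A : Subgroup L) : Set L)
  top : normalClosure (Y : Set L) = ⊤
  max : ∀ X : Subgroup L, Y ≤ X → X ≠ ⊤ → X ≤ normalizer (Y : Set L)
  cA : centralizer (A : Set L) ≤ A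

variable {Y A : Subgroup L}

theorem Setup.conj [A.Normal] (h : Setup p Y A) (g : L) :
    Setup p (Y.map (MulAut.conj g).toMonoidHom) A := by
  have hA : ∀ a : L, g⁻¹ * a * g ∈ A ↔ a ∈ A := fun a => by
    constructor
    · intro ha
      simpa [mul_assoc] using ‹A.Normal›.conj_mem _ ha g
    · intro ha
      simpa [mul_assoc] using ‹A.Normal›.conj_mem _ ha g⁻¹
  have hmem : ∀ x : L, x ∈ Y.map (MulAut.conj g).toMonoidHom ↔ g⁻¹ * x * g ∈ Y := fun x => by
    constructor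
    · rintro ⟨y, hy, rfl⟩
      simpa [mul_assoc] using hy
    · intro hx
      exact ⟨_, hx, by simp [mul_assoc]⟩
  refine ⟨?_, h.pY.map _, h.pA, ?_, ?_, ?_, ?_, h.cA⟩
  · intro x hx y hy
    have h1 := h.comm _ ((hmem x).1 hx) _ ((hmem y).1 hy)
    have h2 : g⁻¹ * (x * y) * g = g⁻¹ * (y * x) * g := by
      calc g⁻¹ * (x * y) * g = g⁻¹ * x * g * (g⁻¹ * y * g) := by group
        _ = g⁻¹ * y * g * (g⁻¹ * x * g) := h1
        _ = g⁻¹ * (y * x) * g := by group
    exact mul_left_cancel (mul_right_cancel h2)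
  · intro a ha
    rw [mem_normalizer_iff]
    intro x
    have := mem_normalizer_iff.1 (h.normA ((hA a).2 ha)) (g⁻¹ * x * g)
    rw [hmem, hmem, this,
      show g⁻¹ * a * g * (g⁻¹ * x * g) * (g⁻¹ * a * g)⁻¹ = g⁻¹ * (a * x * a⁻¹) * g by group]
  · refine le_antisymm ?_ (normalClosure_le_normal inf_le_right)
    conv_lhs => rw [h.gen]
    refine normalClosure_le_normal fun x hx => ?_
    have h1 : g * x * g⁻¹ ∈ normalClosure
        ((Y.map (MulAut.conj g).toMonoidHom ⊓ A : Subgroup L) : Set L) :=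
      subset_normalClosure (mem_inf.2 ⟨⟨x, hx.1, rfl⟩, ‹A.Normal›.conj_mem _ hx.2 g⟩)
    simpa [mul_assoc] using (normalClosure_normal).conj_mem _ h1 g⁻¹
  · refine eq_top_iff.2 (h.top ▸ normalClosure_le_normal fun x hx => ?_)
    have h1 : g * x * g⁻¹ ∈ normalClosure ((Y.map (MulAut.conj g).toMonoidHom : Subgroup L) : Set L) :=
      subset_normalClosure ⟨x, hx, rfl⟩
    simpa [mul_assoc] using (normalClosure_normal).conj_mem _ h1 g⁻¹
  · intro X hX hne x hx
    have h1 : g⁻¹ * x * g ∈ normalizer (Y : Set L) := by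
      refine h.max (X.comap (MulAut.conj g).toMonoidHom) (fun y hy => hX ⟨y, hy, rfl⟩) ?_ ?_
      · intro he
        refine hne (eq_top_iff.2 fun z _ => ?_)
        have hz : g⁻¹ * z * g ∈ X.comap (MulAut.conj g).toMonoidHom := he ▸ mem_top _
        simpa [mul_assoc] using hz
      · simpa [mul_assoc] using hx
    rw [mem_normalizer_iff]
    intro z
    have := mem_normalizer_iff.1 h1 (g⁻¹ * z * g)
    rw [hmem, hmem, this,
      show g⁻¹ * x * g * (g⁻¹ * z * g) * (g⁻¹ * x * g)⁻¹ = g⁻¹ * (x * z * x⁻¹) * g by group]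

theorem inf_center_conj (g : L) :
    Y.map (MulAut.conj g).toMonoidHom ⊓ center L = Y ⊓ center L := by
  ext x
  simp only [mem_inf]
  constructor
  · rintro ⟨⟨y, hy, rfl⟩, hx⟩
    have h1 : g * y * g⁻¹ ∈ center L := by simpa using hx
    have h2 := mem_center_iff.1 h1 g
    have h3 : g * y * g⁻¹ = y := by
      have h4 : g * (g * y * g⁻¹) = g * y := by rw [h2]; group
      exact mul_left_cancel h4
    exact ⟨by simpa [h3] using hy, hx⟩
  · rintro ⟨hy, hx⟩
    refine ⟨⟨x, hy, ?_⟩, hx⟩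
    simp [mem_center_iff.1 hx g]

variable [Finite L] [Fact p.Prime] [A.Normal]

theorem Setup.center_le (h : Setup p Y A) : center L ≤ A :=
  fun x hx => h.cA (mem_centralizer_iff.2 fun a _ => mem_center_iff.1 hx a)

/-- An element of `Y` fixed, up to `Y ⊓ Z(L)`, by all of `L` is central. -/
theorem Setup.central (h : Setup p Y A) {d : L} (hd : d ∈ Y)
    (hfix : ∀ g : L, g * d * g⁻¹ * d⁻¹ ∈ Y ⊓ center L) : d ∈ center L := by
  set R : Subgroup L := closure {g : L | ¬ p ∣ orderOf g}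
  haveI : R.Normal := by
    constructor
    intro x hx g
    have hmap : R.map (MulAut.conj g).toMonoidHom ≤ R := by
      rw [MonoidHom.map_closure]
      refine closure_mono ?_
      rintro _ ⟨z, hz, rfl⟩
      show ¬ p ∣ orderOf ((MulAut.conj g) z)
      rw [MulEquiv.orderOf_eq]
      exact hz
    exact hmap ⟨x, hx, rfl⟩
  have hR : R ≤ centralizer {d} := by
    refine (closure_le _).2 fun g hg => ?_
    set c := g * d * g⁻¹ * d⁻¹ with hc
    have hcc : c ∈ Y ⊓ center L := hfix g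
    have hpow : ∀ n : ℕ, g ^ n * d * (g ^ n)⁻¹ = c ^ n * d := by
      intro n
      induction n with
      | zero => simp
      | succ n ih =>
        have h1 : g * c ^ n = c ^ n * g :=
          mem_center_iff.1 ((center L).pow_mem hcc.2 n) g
        calc g ^ (n + 1) * d * (g ^ (n + 1))⁻¹ = g * (g ^ n * d * (g ^ n)⁻¹) * g⁻¹ := by group
          _ = g * c ^ n * (d * g⁻¹) := by rw [ih]; group
          _ = c ^ n * (g * d * g⁻¹) := by rw [h1]; group
          _ = c ^ (n + 1) * d := by rw [pow_succ, hc]; group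
    have h1 : c ^ orderOf g = 1 := by
      have h2 := hpow (orderOf g)
      rw [pow_orderOf_eq_one, one_mul, inv_one, mul_one] at h2
      exact right_eq_mul.1 h2
    obtain ⟨k, hk⟩ := h.pY ⟨c, hcc.1⟩
    have hk' : c ^ p ^ k = 1 := congrArg Subtype.val hk
    have hcop : (orderOf g).Coprime (p ^ k) :=
      ((Fact.out : p.Prime).coprime_iff_not_dvd.2 hg).symm.pow_right k
    have hc1 : c = 1 := by
      have := pow_gcd_eq_one.2 ⟨h1, hk'⟩
      rwa [hcop, pow_one] at this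
    rw [SetLike.mem_coe, mem_centralizer_singleton_iff]
    exact mul_inv_eq_iff_eq_mul.1 (mul_inv_eq_one.1 hc1)
  have hY : Y ≤ centralizer {d} := fun y hy =>
    mem_centralizer_singleton_iff.2 (h.comm y hy d hd)
  have hq : IsPGroup p (L ⧸ R) := by
    intro x
    obtain ⟨z, rfl⟩ := QuotientGroup.mk'_surjective R x
    obtain ⟨k, m, hm, hkm⟩ := Nat.exists_eq_pow_mul_and_not_dvd (orderOf_pos z).ne' p
      (Fact.out : p.Prime).ne_one
    refine ⟨k, ?_⟩
    rw [← map_pow]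
    refine (QuotientGroup.eq_one_iff _).2 (subset_closure (?_ : ¬ p ∣ orderOf (z ^ p ^ k)))
    rw [orderOf_pow' _ (pow_ne_zero k (Fact.out : p.Prime).ne_zero), hkm,
      Nat.gcd_eq_right (dvd_mul_right _ _), Nat.mul_div_cancel_left _
        (pow_pos (Fact.out : p.Prime).pos k)]
    exact hm
  have htop : R ⊔ Y = ⊤ := by
    haveI := hq.isNilpotent
    by_contra hne
    have hne' : (R ⊔ Y).map (QuotientGroup.mk' R) ≠ ⊤ := fun he => by
      refine hne ?_
      have := congrArg (comap (QuotientGroup.mk' R)) he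
      rw [comap_map_eq, QuotientGroup.ker_mk', comap_top, sup_comm, ← sup_assoc, sup_idem] at this
      exact this
    obtain ⟨M, hM, hle⟩ := (eq_top_or_exists_le_coatom _).resolve_left hne'
    haveI : M.Normal := NormalizerCondition.normal_of_coatom M Group.normalizerCondition_of_isNilpotent hM
    refine hM.1 (eq_top_iff.2 fun x _ => ?_)
    obtain ⟨z, rfl⟩ := QuotientGroup.mk'_surjective R x
    have hz : z ∈ normalClosure (Y : Set L) := h.top ▸ mem_top z
    exact normalClosure_le_normal (N := M.comap (QuotientGroup.mk' R))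
      (fun y hy => hle ⟨y, mem_sup_right hy, rfl⟩) hz
  refine mem_center_iff.2 fun g => ?_
  exact mem_centralizer_singleton_iff.1 (sup_le hR hY (htop ▸ mem_top g))

variable {P₁ P₂ : Subgroup L} {C : Subgroup L}

/-- The step: an element of `P₁ ⊓ A` fixed modulo `C` by an element outside `N(P₁)` lies in `C`. -/
theorem mem_of_fix [C.Normal] (h1 : Setup p P₁ A) (hC1 : C = P₁ ⊓ center L) {y : L}
    (hgen : P₁ ⊔ zpowers y = ⊤) {d : L} (hd : d ∈ P₁)
    (hfix : Commute (QuotientGroup.mk' C y) (QuotientGroup.mk' C d)) : d ∈ C := by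
  set f := QuotientGroup.mk' C
  have hall : ∀ g : L, Commute (f g) (f d) := by
    have hle : P₁ ⊔ zpowers y ≤ (centralizer {f d}).comap f := by
      refine sup_le (fun z hz => ?_) ((zpowers_le).2 ?_)
      · rw [mem_comap, mem_centralizer_singleton_iff, ← map_mul, ← map_mul, h1.comm z hz d hd]
      · rw [mem_comap, mem_centralizer_singleton_iff]
        exact hfix
    intro g
    exact mem_centralizer_singleton_iff.1 (hle (hgen ▸ mem_top g))
  have hd' : d ∈ center L := h1.central hd fun g => by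
    rw [← hC1, ← QuotientGroup.eq_one_iff]
    show f (g * d * g⁻¹ * d⁻¹) = 1
    rw [map_mul, map_mul, map_mul, map_inv, map_inv, (hall g).eq, mul_inv_cancel_right,
      mul_inv_cancel]
  exact hC1 ▸ mem_inf.2 ⟨hd, hd'⟩

theorem sup_zpowers_eq_top (h1 : Setup p P₁ A) {y : L} (hy : IsPGroup p (zpowers y)) {x : L}
    (hx : x ∈ P₁) (hnp : ¬ IsPGroup p (closure ({x, y} : Set L))) : P₁ ⊔ zpowers y = ⊤ := by
  by_contra hne
  have hN := le_sup_right.trans (h1.max _ le_sup_left hne)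
  refine hnp ((h1.pY.to_sup_of_normal_left' hy hN).to_le ((closure_le _).2 ?_))
  rintro z (rfl | rfl)
  · exact mem_sup_left hx
  · exact mem_sup_right (mem_zpowers _)

variable [C.Normal]

theorem map_inf_commute (h1 : Setup p P₁ A) (hC1 : C = P₁ ⊓ center L) (h2 : Setup p P₂ A)
    (hsup : P₁ ⊔ P₂ = ⊤) {d e : L} (hd : d ∈ P₁ ⊓ A) (he : e ∈ P₂ ⊓ A) :
    Commute (QuotientGroup.mk' C d) (QuotientGroup.mk' C e) := by
  set c := d * e * d⁻¹ * e⁻¹
  have hc1 : c ∈ P₁ := by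
    have : e * d⁻¹ * e⁻¹ ∈ P₁ := (mem_normalizer_iff.1 (h1.normA he.2) _).1 (inv_mem hd.1)
    simpa [c, mul_assoc] using P₁.mul_mem hd.1 this
  have hc2 : c ∈ P₂ := by
    have : d * e * d⁻¹ ∈ P₂ := (mem_normalizer_iff.1 (h2.normA hd.2) _).1 he.1
    exact P₂.mul_mem this (inv_mem he.1)
  have hcz : c ∈ center L := by
    refine mem_center_iff.2 fun g => ?_
    have hle : P₁ ⊔ P₂ ≤ centralizer {c} := sup_le
      (fun z hz => mem_centralizer_singleton_iff.2 (h1.comm z hz c hc1))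
      (fun z hz => mem_centralizer_singleton_iff.2 (h2.comm z hz c hc2))
    exact mem_centralizer_singleton_iff.1 (hle (hsup ▸ mem_top g))
  have hmk : QuotientGroup.mk' C c = 1 := (QuotientGroup.eq_one_iff c).2 (hC1 ▸ mem_inf.2 ⟨hc1, hcz⟩)
  simp only [c, map_mul, map_inv] at hmk
  exact mul_inv_eq_iff_eq_mul.1 (mul_inv_eq_one.1 hmk)

/-- `A = (P₁ ⊓ A)(P₂ ⊓ A)`. -/
theorem le_sup (h1 : Setup p P₁ A) (h2 : Setup p P₂ A) (hsup : P₁ ⊔ P₂ = ⊤) :
    A ≤ (P₁ ⊓ A) ⊔ (P₂ ⊓ A) := by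
  set D := (P₁ ⊓ A) ⊔ (P₂ ⊓ A) with hD
  have key : ∀ Q : Subgroup L, Setup p Q A → Q ⊓ A ≤ D → Q ≤ normalizer (D : Set L) := by
    intro Q hQ hQD q hq
    have hconj : ∀ q' ∈ Q, ∀ z ∈ D, q' * z * q'⁻¹ ∈ D := by
      intro q' hq' z hz
      have hzA : z ∈ A := (sup_le inf_le_right inf_le_right : D ≤ A) hz
      have h3 : q' * z * q'⁻¹ * z⁻¹ ∈ Q ⊓ A := mem_inf.2 ⟨by
        have : z * q'⁻¹ * z⁻¹ ∈ Q := (mem_normalizer_iff.1 (hQ.normA hzA) _).1 (inv_mem hq')
        simpa [mul_assoc] using Q.mul_mem hq' this,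
        A.mul_mem (‹A.Normal›.conj_mem _ hzA q') (inv_mem hzA)⟩
      simpa [mul_assoc] using D.mul_mem (hQD h3) hz
    rw [mem_normalizer_iff]
    intro z
    refine ⟨hconj q hq z, fun hz => ?_⟩
    simpa [mul_assoc] using hconj q⁻¹ (inv_mem hq) _ hz
  haveI hn : D.Normal := normalizer_eq_top_iff.1 (eq_top_iff.2
    (hsup ▸ sup_le (key P₁ h1 le_sup_left) (key P₂ h2 le_sup_right)))
  conv_lhs => rw [h1.gen]
  exact normalClosure_le_normal (le_sup_left : P₁ ⊓ A ≤ D)

theorem exists_decomp (h1 : Setup p P₁ A) (h2 : Setup p P₂ A) (hsup : P₁ ⊔ P₂ = ⊤) {a : L}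
    (ha : a ∈ A) : ∃ d ∈ P₁ ⊓ A, ∃ e ∈ P₂ ⊓ A, d * e = a := by
  have hle : P₂ ⊓ A ≤ normalizer ((P₁ ⊓ A : Subgroup L) : Set L) := by
    intro z hz
    rw [mem_normalizer_iff]
    intro w
    simp only [mem_inf]
    rw [show (w ∈ P₁ ↔ z * w * z⁻¹ ∈ P₁) from mem_normalizer_iff.1 (h1.normA hz.2) w]
    refine and_congr_right fun _ => ⟨fun hw => ‹A.Normal›.conj_mem _ hw z, fun hw => ?_⟩
    simpa [mul_assoc] using ‹A.Normal›.conj_mem _ hw z⁻¹
  have hmem := le_sup h1 h2 hsup ha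
  rw [← SetLike.mem_coe, coe_mul_of_right_le_normalizer_left _ _ hle] at hmem
  exact hmem

theorem commute_A (h1 : Setup p P₁ A) (hC1 : C = P₁ ⊓ center L) (h2 : Setup p P₂ A)
    (hsup : P₁ ⊔ P₂ = ⊤) {a b : L} (ha : a ∈ A) (hb : b ∈ A) :
    Commute (QuotientGroup.mk' C a) (QuotientGroup.mk' C b) := by
  obtain ⟨d, hd, e, he, rfl⟩ := exists_decomp h1 h2 hsup ha
  obtain ⟨d', hd', e', he', rfl⟩ := exists_decomp h1 h2 hsup hb
  have c1 : Commute (QuotientGroup.mk' C d) (QuotientGroup.mk' C d') :=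
    (show Commute d d' from h1.comm d hd.1 d' hd'.1).map _
  have c2 : Commute (QuotientGroup.mk' C e) (QuotientGroup.mk' C e') :=
    (show Commute e e' from h2.comm e he.1 e' he'.1).map _
  have c3 := map_inf_commute h1 hC1 h2 hsup hd he'
  have c4 := map_inf_commute h1 hC1 h2 hsup hd' he
  rw [map_mul, map_mul]
  exact ((c1.mul_right c3).mul_left ((c4.symm).mul_right c2))

/-- No nontrivial common fixed point, in product form. -/
theorem fixed_mem (h1 : Setup p P₁ A) (hC1 : C = P₁ ⊓ center L) (h2 : Setup p P₂ A)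
    (hC2 : C = P₂ ⊓ center L) {y₁ y₂ : L} (hy1 : y₁ ∈ P₁) (hy2 : y₂ ∈ P₂)
    (hnp : ¬ IsPGroup p (closure ({y₁, y₂} : Set L))) {a : L} (ha : a ∈ A)
    (hfix : Commute (QuotientGroup.mk' C (y₁ * y₂)) (QuotientGroup.mk' C a)) : a ∈ C := by
  have hs1 : P₁ ⊔ zpowers y₂ = ⊤ :=
    sup_zpowers_eq_top h1 (h2.pY.to_le ((zpowers_le).2 hy2)) hy1 hnp
  have hs2 : P₂ ⊔ zpowers y₁ = ⊤ :=
    sup_zpowers_eq_top h2 (h1.pY.to_le ((zpowers_le).2 hy1)) hy2 (by rwa [Set.pair_comm])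
  have hsup : P₁ ⊔ P₂ = ⊤ := eq_top_iff.2 (hs1 ▸ sup_le_sup_left ((zpowers_le).2 hy2) _)
  set f := QuotientGroup.mk' C
  -- the two displacements of `a`
  have k2 : y₂ * a * y₂⁻¹ * a⁻¹ ∈ P₂ := by
    have : a * y₂⁻¹ * a⁻¹ ∈ P₂ := (mem_normalizer_iff.1 (h2.normA ha) _).1 (inv_mem hy2)
    simpa [mul_assoc] using P₂.mul_mem hy2 this
  have k1 : y₁⁻¹ * a * y₁ * a⁻¹ ∈ P₁ := by
    have : a * y₁ * a⁻¹ ∈ P₁ := (mem_normalizer_iff.1 (h1.normA ha) _).1 hy1
    simpa [mul_assoc] using P₁.mul_mem (inv_mem hy1) this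
  have heq : f (y₂ * a * y₂⁻¹) = f (y₁⁻¹ * a * y₁) := by
    have h3 : f y₁ * f y₂ * f a = f a * (f y₁ * f y₂) := by rw [← map_mul]; exact hfix
    simp only [map_mul, map_inv]
    calc f y₂ * f a * (f y₂)⁻¹ = (f y₁)⁻¹ * (f y₁ * f y₂ * f a) * (f y₂)⁻¹ := by group
      _ = (f y₁)⁻¹ * f a * f y₁ := by rw [h3]; group
  have hz : y₂ * a * y₂⁻¹ * a⁻¹ ∈ C := by
    have h3 : (y₁⁻¹ * a * y₁ * a⁻¹)⁻¹ * (y₂ * a * y₂⁻¹ * a⁻¹) ∈ C := by
      rw [← QuotientGroup.eq_one_iff]
      show f _ = 1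
      simp only [map_mul, map_inv] at heq ⊢
      rw [heq]; group
    have h4 : y₂ * a * y₂⁻¹ * a⁻¹ ∈ P₁ := by
      rw [hC1] at h3
      have h5 := P₁.mul_mem k1 (mem_inf.1 h3).1
      rwa [mul_inv_cancel_left] at h5
    rw [hC1]
    refine mem_inf.2 ⟨h4, mem_center_iff.2 fun g => ?_⟩
    have hle : P₁ ⊔ P₂ ≤ centralizer {y₂ * a * y₂⁻¹ * a⁻¹} := sup_le
      (fun z hz => mem_centralizer_singleton_iff.2 (h1.comm z hz _ h4))
      (fun z hz => mem_centralizer_singleton_iff.2 (h2.comm z hz _ k2))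
    exact mem_centralizer_singleton_iff.1 (hle (hsup ▸ mem_top g))
  have f2 : Commute (f y₂) (f a) := by
    have := (QuotientGroup.eq_one_iff _).2 hz
    change f (y₂ * a * y₂⁻¹ * a⁻¹) = 1 at this
    simp only [map_mul, map_inv] at this
    exact mul_inv_eq_iff_eq_mul.1 (mul_inv_eq_one.1 this)
  have f1 : Commute (f y₁) (f a) := by
    have h3 : Commute (f (y₁ * y₂) * (f y₂)⁻¹) (f a) := hfix.mul_left f2.inv_left
    rwa [map_mul, mul_inv_cancel_right] at h3
  obtain ⟨d, hd, e, he, rfl⟩ := exists_decomp h1 h2 hsup ha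
  have hde : Commute (f y₂) (f e) := (show Commute y₂ e from h2.comm _ hy2 _ he.1).map _
  have hd1 : d ∈ C := by
    refine mem_of_fix h1 hC1 hs1 hd.1 ?_
    have := f2.mul_right hde.inv_right
    rwa [map_mul, mul_inv_cancel_right] at this
  refine mul_mem hd1 (mem_of_fix h2 hC2 hs2 he.1 ?_)
  have hed : Commute (f y₁) (f d) := (show Commute y₁ d from h1.comm _ hy1 _ hd.1).map _
  have := hed.inv_right.mul_right f1
  rwa [map_mul, inv_mul_cancel_left] at this

/-- A product `y₁y₂` acts without nontrivial fixed points; so does anything congruent to it. -/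
theorem free_of_product {Y : Subgroup L} (h : Setup p Y A) (hC : C = Y ⊓ center L) (g₁ g₂ : L)
    {y₁ y₂ : L} (hy1 : y₁ ∈ Y.map (MulAut.conj g₁).toMonoidHom)
    (hy2 : y₂ ∈ Y.map (MulAut.conj g₂).toMonoidHom)
    (hnp : ¬ IsPGroup p (closure ({y₁, y₂} : Set L))) {x : L} (hx : (y₁ * y₂)⁻¹ * x ∈ A) {a : L}
    (ha : a ∈ A) (hfix : Commute (QuotientGroup.mk' C x) (QuotientGroup.mk' C a)) : a ∈ C := by
  have h1 := h.conj g₁
  have h2 := h.conj g₂
  have hC1 : C = _ ⊓ center L := hC.trans (inf_center_conj g₁).symm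
  have hC2 : C = _ ⊓ center L := hC.trans (inf_center_conj g₂).symm
  have hsup : Y.map (MulAut.conj g₁).toMonoidHom ⊔ Y.map (MulAut.conj g₂).toMonoidHom = ⊤ :=
    eq_top_iff.2 (sup_zpowers_eq_top h1 (h2.pY.to_le ((zpowers_le).2 hy2)) hy1 hnp ▸
      sup_le_sup_left ((zpowers_le).2 hy2) _)
  refine fixed_mem h1 hC1 h2 hC2 hy1 hy2 hnp ha ?_
  have h3 := hfix.mul_left (commute_A h1 hC1 h2 hsup hx ha).inv_left
  rwa [← map_inv, ← map_mul, mul_inv_rev, inv_inv, mul_inv_cancel_left] at h3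

/-- The case of a central element that is the square of a product `z` with `z` and a further
element `u` of a conjugate of `Y` generating no `p`-group with the transform of `u⁻¹`. -/
theorem free_of_square {Y : Subgroup L} (h : Setup p Y A) (hC : C = Y ⊓ center L) (g₁ g₂ g₃ : L)
    {y₁ y₂ u : L} (hy1 : y₁ ∈ Y.map (MulAut.conj g₁).toMonoidHom)
    (hy2 : y₂ ∈ Y.map (MulAut.conj g₂).toMonoidHom) (hu : u ∈ Y.map (MulAut.conj g₃).toMonoidHom)
    (hnp : ¬ IsPGroup p (closure ({y₁, y₂} : Set L)))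
    (hnpu : ¬ IsPGroup p (closure ({u⁻¹, y₁ * y₂ * u * (y₁ * y₂)⁻¹} : Set L)))
    {x : L} (hx : ((y₁ * y₂) * (y₁ * y₂))⁻¹ * x ∈ A) (hxc : ∀ g : L, ⁅g, x⁆ ∈ A) {a : L}
    (ha : a ∈ A) (hfix : Commute (QuotientGroup.mk' C x) (QuotientGroup.mk' C a)) : a ∈ C := by
  set f := QuotientGroup.mk' C
  set z := y₁ * y₂
  have h1 := h.conj g₁
  have h2 := h.conj g₂
  have hC1 : C = _ ⊓ center L := hC.trans (inf_center_conj g₁).symm
  have hsup : Y.map (MulAut.conj g₁).toMonoidHom ⊔ Y.map (MulAut.conj g₂).toMonoidHom = ⊤ :=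
    eq_top_iff.2 (sup_zpowers_eq_top h1 (h2.pY.to_le ((zpowers_le).2 hy2)) hy1 hnp ▸
      sup_le_sup_left ((zpowers_le).2 hy2) _)
  have hab : ∀ {s t : L}, s ∈ A → t ∈ A → Commute (f s) (f t) := fun hs ht =>
    commute_A h1 hC1 h2 hsup hs ht
  -- the fixed points of `x` are invariant
  have hinv : ∀ (g : L) (b : L), b ∈ A → Commute (f x) (f b) →
      Commute (f x) (f (g * b * g⁻¹)) := by
    intro g b hb hxb
    have hw : ⁅g⁻¹, x⁆ ∈ A := hxc g⁻¹
    have h3 : Commute (f (g * x * g⁻¹)) (f (g * b * g⁻¹)) := by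
      have := hxb.map (MulAut.conj (f g)).toMonoidHom
      simpa [MulAut.conj_apply] using this
    have h4 : Commute (f (g * ⁅g⁻¹, x⁆ * g⁻¹)) (f (g * b * g⁻¹)) :=
      hab (‹A.Normal›.conj_mem _ hw g) (‹A.Normal›.conj_mem _ hb g)
    have h5 : x = g * ⁅g⁻¹, x⁆ * g⁻¹ * (g * x * g⁻¹) * 1 := by
      rw [commutatorElement_def]; group
    rw [h5, mul_one, map_mul]
    exact h4.mul_left h3
  -- `z` inverts them
  have hneg : ∀ b : L, b ∈ A → Commute (f x) (f b) → f (z * b * z⁻¹) = (f b)⁻¹ := by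
    intro b hb hxb
    have hzb : z * b * z⁻¹ ∈ A := ‹A.Normal›.conj_mem _ hb z
    have hz2 : Commute (f (z * z)) (f b) := by
      have := hxb.mul_left (hab hx hb).inv_left
      rwa [← map_inv, ← map_mul, mul_inv_rev, inv_inv, mul_inv_cancel_left] at this
    have hz3 : Commute (f z) (f (b * (z * b * z⁻¹))) := by
      show f z * f (b * (z * b * z⁻¹)) = f (b * (z * b * z⁻¹)) * f z
      have hz2' : f z * f z * f b = f b * (f z * f z) := by rw [← map_mul]; exact hz2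
      have hab' := (hab hb hzb).eq
      simp only [map_mul, map_inv] at hab' ⊢
      calc f z * (f b * (f z * f b * (f z)⁻¹))
          = f z * f b * (f z)⁻¹ * (f z * f z * f b) * (f z)⁻¹ := by group
        _ = f z * f b * (f z)⁻¹ * f b * f z := by rw [hz2']; group
        _ = f b * (f z * f b * (f z)⁻¹) * f z := by rw [← hab']
    have hm := free_of_product h hC g₁ g₂ hy1 hy2 hnp (x := z) (by simp [z, A.one_mem])
      (A.mul_mem hb hzb) hz3
    have h6 : f b * f (z * b * z⁻¹) = 1 := by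
      rw [← map_mul]; exact (QuotientGroup.eq_one_iff _).2 hm
    exact (inv_eq_of_mul_eq_one_right h6).symm
  have hw : z * u * z⁻¹ ∈ Y.map (MulAut.conj (z * g₃)).toMonoidHom := by
    obtain ⟨v, hv, rfl⟩ := hu
    exact ⟨v, hv, by simp [mul_assoc]⟩
  refine free_of_product h hC g₃ (z * g₃) (inv_mem hu) hw hnpu
    (x := u⁻¹ * (z * u * z⁻¹)) (by rw [inv_mul_cancel]; exact A.one_mem) ha ?_
  have ha1 : z⁻¹ * a * z ∈ A := by simpa using ‹A.Normal›.conj_mem _ ha z⁻¹
  have hx1 : Commute (f x) (f (z⁻¹ * a * z)) := by simpa using hinv z⁻¹ a ha hfix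
  have e1 : f (z⁻¹ * a * z) = (f a)⁻¹ := by
    have h7 := hneg _ ha1 hx1
    rw [show z * (z⁻¹ * a * z) * z⁻¹ = a by group] at h7
    rw [h7, inv_inv]
  have hb : u * (z⁻¹ * a * z) * u⁻¹ ∈ A := ‹A.Normal›.conj_mem _ ha1 u
  have h8 := hneg _ hb (hinv u _ ha1 hx1)
  show f (u⁻¹ * (z * u * z⁻¹)) * f a = f a * f (u⁻¹ * (z * u * z⁻¹))
  simp only [map_mul, map_inv] at e1 h8 ⊢
  rw [e1] at h8
  calc (f u)⁻¹ * (f z * f u * (f z)⁻¹) * f a
      = (f u)⁻¹ * (f z * (f u * ((f z)⁻¹ * f a * f z) * (f u)⁻¹) * (f z)⁻¹) *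
          (f z * f u * (f z)⁻¹) := by group
    _ = (f u)⁻¹ * (f u * (f a)⁻¹ * (f u)⁻¹)⁻¹ * (f z * f u * (f z)⁻¹) := by rw [e1, h8]
    _ = f a * ((f u)⁻¹ * (f z * f u * (f z)⁻¹)) := by group

end Cfsg.Agent.FrakL82
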