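import Cfsg.Agent.FrakL82.Roots
import Cfsg.Agent.LocalEven61.SuzukiTorusElement

/-!
In `Sz(q)` every element of odd prime order is a product of two involutions.
-/

set_option autoImplicit false
set_option linter.style.haveILetI false

namespace Cfsg.Agent.FrakL82

open Cfsg.Agent.Suzuki

variable {F : Type*} [Field F] [Fintype F] {m : ℕ} (hF : Fintype.card F = 2 ^ (2 * m + 1))
include hF

theorem sz_inverted (hm : 1 ≤ m) {r : ℕ} (hr : r.Prime) (hr2 : r ≠ 2) {x : Cfsg.Sz F m}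
    (hx : orderOf x = r) : ∃ s : Cfsg.Sz F m, orderOf s = 2 ∧ s * x * s⁻¹ = x⁻¹ := by
  have hx1 : x ≠ 1 := fun h => by rw [h, orderOf_one] at hx; exact hr.ne_one hx.symm
  rcases classify hF hm hx1 with h | ⟨a, b, h, -, e⟩ | ⟨k, h, -, e⟩
  · have hd : r ∣ Fintype.card F ^ 2 + 1 := prime_dvd_of_fpf_prime hF hm h hr hx
    obtain ⟨g₁, g₂, hg₁, hg₂, c₁, c₂, n₁, n₂⟩ := torus_orders hF hm
    set q := Fintype.card F with hq
    have hss : 2 ^ (m + 1) * 2 ^ (m + 1) = 2 * q := by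
      rw [hF, ← pow_add, ← pow_succ']; congr 1; ring
    have hsq : 2 ^ (m + 1) ≤ q := by
      rw [hF]; exact Nat.pow_le_pow_right (by norm_num) (by omega)
    have hprod : (q + 2 ^ (m + 1) + 1) * (q - 2 ^ (m + 1) + 1) = q ^ 2 + 1 := by
      zify [hsq] at hss ⊢
      linear_combination -hss
    obtain ⟨g, hg, hN, hdg⟩ : ∃ g : Cfsg.Sz F m, Fpf g ∧
        Nat.card (Subgroup.normalizer (Subgroup.centralizer {g} : Set (Cfsg.Sz F m)))
          = 4 * Nat.card (Subgroup.centralizer {g}) ∧ r ∣ Nat.card (Subgroup.centralizer {g}) := by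
      rcases hr.dvd_mul.1 (hprod ▸ hd) with h2 | h2
      · exact ⟨g₁, hg₁, n₁, c₁ ▸ h2⟩
      · exact ⟨g₂, hg₂, n₂, c₂ ▸ h2⟩
    have hxx : x ∈ Subgroup.centralizer {x} := Subgroup.mem_centralizer_singleton_iff.2 rfl
    have hdx : r ∣ Nat.card (Subgroup.centralizer {x}) := by
      have := orderOf_dvd_natCard (⟨x, hxx⟩ : Subgroup.centralizer {x})
      rwa [← Subgroup.orderOf_coe, hx] at this
    obtain ⟨c, hc⟩ := torus_conj hF hm hg h hr hdg hdx
    obtain ⟨y, hy, hyx⟩ := hc.le hxx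
    obtain ⟨s, hs, hinv⟩ := LocalEven61.sz_torus_inverted hF hm hg hN
    refine ⟨c * s * c⁻¹, ?_, ?_⟩
    · exact (orderOf_injective (MulAut.conj c).toMonoidHom (MulAut.conj c).injective s).trans hs
    · rw [← hyx]
      show c * s * c⁻¹ * (c * y * c⁻¹) * (c * s * c⁻¹)⁻¹ = (c * y * c⁻¹)⁻¹
      rw [show c * s * c⁻¹ * (c * y * c⁻¹) * (c * s * c⁻¹)⁻¹ = c * (s * y * s⁻¹) * c⁻¹ by group,
        hinv y hy]
      group
  · exfalso
    have h4 : U hF a b ^ 4 = 1 := by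
      have := Monoid.pow_exponent_eq_one (⟨U hF a b, U_mem_USub hF a b⟩ : USub hF)
      rw [exponent_USub hF] at this
      exact congrArg Subtype.val this
    have : orderOf x ∣ 2 ^ 2 := orderOf_dvd_of_pow_eq_one (by
      rw [e, show (2:ℕ) ^ 2 = 4 by norm_num, conj_pow, h4, mul_one, mul_inv_cancel])
    rw [hx] at this
    exact hr2 ((Nat.prime_dvd_prime_iff_eq hr Nat.prime_two).1 (hr.dvd_of_dvd_pow this))
  · have hW1 : W hF ≠ 1 := fun h1 => by
      have h2 := W_smul_inf hF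
      rw [h1, one_smul] at h2
      exact pt_ne_inf 0 0 h2.symm
    refine ⟨h * W hF * h⁻¹, ?_, ?_⟩
    · exact (orderOf_injective (MulAut.conj h).toMonoidHom (MulAut.conj h).injective _).trans
        (orderOf_eq_prime (by rw [pow_two, W_mul_W hF]) hW1)
    · rw [e, show h * W hF * h⁻¹ * (h * T hF k * h⁻¹) * (h * W hF * h⁻¹)⁻¹
          = h * (W hF * T hF k * (W hF)⁻¹) * h⁻¹ by group,
        W_mul_T hF k, mul_inv_cancel_right, T_inv hF k]
      group

theorem sz_good (hm : 1 ≤ m) {K : Subgroup (Cfsg.Sz F m)}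
    (hK : ∀ k ∈ K, k ^ 2 = 1) (hK1 : K ≠ ⊥) {r : ℕ} (hr : r.Prime) (hr2 : r ≠ 2)
    {x : Cfsg.Sz F m} (hx : orderOf x = r) : IsGood 2 K x := by
  obtain ⟨k, hk, hk1⟩ : ∃ k ∈ K, k ≠ 1 := by
    by_contra! h
    exact hK1 ((Subgroup.eq_bot_iff_forall K).2 h)
  have hko : orderOf k = 2 := orderOf_eq_prime (hK k hk) hk1
  have hroot : ∀ u : Cfsg.Sz F m, orderOf u = 2 → IsRoot K u := fun u hu => by
    obtain ⟨g, rfl⟩ := LocalEven61.sz_isConj_involution hF hm hko hu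
    exact (IsRoot.of_mem hk).conj g
  obtain ⟨s, hs, hinv⟩ := sz_inverted hF hm hr hr2 hx
  have hs2 : s * s = 1 := by rw [← pow_two, ← hs]; exact pow_orderOf_eq_one s
  have hsi : s⁻¹ = s := inv_eq_of_mul_eq_one_right hs2
  refine Or.inl ⟨x * s, s, hroot _ (orderOf_eq_prime ?_ ?_), hroot _ hs, ?_⟩
  · rw [hsi] at hinv
    rw [pow_two]
    calc x * s * (x * s) = x * (s * x * s) := by group
      _ = 1 := by rw [hinv, mul_inv_cancel]
  · intro h
    have h2 : orderOf x = 2 := by rw [eq_inv_of_mul_eq_one_left h, orderOf_inv, hs]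
    exact hr2 (hx.symm.trans h2)
  · rw [mul_assoc, hs2, mul_one]

end Cfsg.Agent.FrakL82
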