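import Cfsg.Agent.FrakL82.SL
import Cfsg.Agent.FrakL82.Sz

/-!
A root group is the only nontrivial elementary abelian `p`-subgroup of its normalizer invariant
under all proper overgroups of the root group.
-/

set_option autoImplicit false
set_option linter.style.haveILetI false

namespace Cfsg.Agent.FrakL82

open Subgroup

/-- `K` is the only nontrivial elementary abelian `p`-subgroup that normalises `K` and is
normalised by every proper overgroup of `K`. -/
def IsUniqueRoot {Q : Type*} [Group Q] (p : ℕ) (K : Subgroup Q) : Prop :=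
  ∀ V : Subgroup Q, (∀ v ∈ V, v ^ p = 1) → V ≠ ⊥ → V ≤ normalizer (K : Set Q) →
    (∀ X : Subgroup Q, K ≤ X → X ≠ ⊤ → X ≤ normalizer (V : Set Q)) → V = K

theorem IsUniqueRoot.of_equiv {Q R : Type*} [Group Q] [Group R] {p : ℕ} {K : Subgroup Q}
    (e : Q ≃* R) (h : IsUniqueRoot p (K.map e.toMonoidHom)) : IsUniqueRoot p K := by
  intro V hpow hne hnorm hX
  refine map_injective (f := e.toMonoidHom) e.injective (h _ ?_ ?_ ?_ fun X hKX hXt => ?_)
  · rintro _ ⟨v, hv, rfl⟩
    rw [← map_pow, hpow v hv, map_one]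
  · exact fun h0 => hne ((Subgroup.map_eq_bot_iff_of_injective _ e.injective).1 h0)
  · exact (map_mono hnorm).trans (le_normalizer_map _)
  · have hle := hX (X.comap e.toMonoidHom) (map_le_iff_le_comap.1 hKX) fun ht => hXt (by
      rw [← map_comap_eq_self_of_surjective (f := e.toMonoidHom) e.surjective X, ht,
        map_top_of_surjective _ e.surjective])
    rw [← map_comap_eq_self_of_surjective (f := e.toMonoidHom) e.surjective X]
    exact (map_mono hle).trans (le_normalizer_map _)

theorem isPGroup_of_pow_eq_one {Q : Type*} [Group Q] {p : ℕ} {V : Subgroup Q}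
    (h : ∀ v ∈ V, v ^ p = 1) : IsPGroup p V :=
  fun v => ⟨1, Subtype.ext (by simpa using h v v.2)⟩

theorem unique_of_card_two {Q : Type*} [Group Q] [Finite Q] [Fact (Nat.Prime 2)] {K : Subgroup Q}
    (hK : Nat.card K = 2) (hcore : ∀ N : Subgroup Q, N.Normal → IsPGroup 2 N → N = ⊥)
    (hmax : ∀ X : Subgroup Q, K ≤ X → X ≠ ⊤ → X ≤ normalizer (K : Set Q)) : IsUniqueRoot 2 K := by
  intro V hpow hne hnorm _
  have hKp : IsPGroup 2 K := IsPGroup.of_card (n := 1) (by simp [hK])
  obtain ⟨s, hsK, hs1⟩ : ∃ s ∈ K, s ≠ 1 := by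
    by_contra! h
    rw [(eq_bot_iff_forall K).2 h, card_bot] at hK; omega
  have hKs : ∀ k ∈ K, k = 1 ∨ k = s := by
    intro k hk
    by_contra hcon
    push Not at hcon
    have h3 := Nat.card_le_card_of_injective
      (f := fun i : Fin 3 => (![⟨1, K.one_mem⟩, ⟨s, hsK⟩, ⟨k, hk⟩] : Fin 3 → K) i)
      (by intro i j hij; fin_cases i <;> fin_cases j <;>
        simp_all [Subtype.ext_iff, eq_comm])
    rw [Nat.card_eq_fintype_card, Fintype.card_fin, hK] at h3; omega
  have hs2 : s * s = 1 := by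
    have h2 := pow_card_eq_one' (G := K) (x := ⟨s, hsK⟩)
    rw [hK, pow_two] at h2
    exact congrArg Subtype.val h2
  have hcs : ∀ v ∈ V, Commute v s := by
    intro v hv
    rcases hKs _ ((mem_normalizer_iff.1 (hnorm hv) s).1 hsK) with h | h
    · exact absurd (conj_eq_one_iff.1 h) hs1
    · exact mul_inv_eq_iff_eq_mul.1 h
  obtain ⟨g, hg⟩ : ∃ g : Q, ¬ IsPGroup 2 (closure ({s, g * s * g⁻¹} : Set Q)) := by
    by_contra hall
    push Not at hall
    obtain ⟨N, hN, hNp, hsN⟩ := Involution.baerSuzuki s hall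
    rw [hcore N hN hNp, mem_bot] at hsN
    exact hs1 hsN
  set t := g * s * g⁻¹ with ht
  have ht2 : t * t = 1 := by rw [ht]; simp [mul_assoc, ← mul_assoc s s, hs2]
  have hKle : K ≤ closure ({s, t} : Set Q) := fun k hk => by
    rcases hKs k hk with rfl | rfl
    · exact one_mem _
    · exact subset_closure (Set.mem_insert _ _)
  have htop : closure ({s, t} : Set Q) = ⊤ := by
    by_contra htne
    have hle := hmax _ hKle htne
    have hzt : zpowers t ≤ normalizer (K : Set Q) :=
      zpowers_le.2 (hle (subset_closure (Set.mem_insert_of_mem _ rfl)))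
    have hp : IsPGroup 2 (zpowers t) :=
      (hKp.map (MulAut.conj g).toMonoidHom).to_le (zpowers_le.2 ⟨s, hsK, rfl⟩)
    refine hg ((hKp.to_sup_of_normal_left' hp hzt).to_le ((closure_le _).2 ?_))
    rintro z (rfl | rfl)
    · exact mem_sup_left hsK
    · exact mem_sup_right (mem_zpowers _)
  -- a power of `st` commuting with `s` is trivial
  have hpow1 : ∀ i : ℤ, Commute ((s * t) ^ i) s → (s * t) ^ i = 1 := by
    intro i hi
    have ht' : t = s * (s * t) := by rw [← mul_assoc, hs2, one_mul]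
    have hct : Commute ((s * t) ^ i) t := by
      have h0 := hi.mul_right ((Commute.refl (s * t)).zpow_left i)
      rwa [← ht'] at h0
    have hcen : (s * t) ^ i ∈ center Q := by
      refine mem_center_iff.2 fun z => ?_
      have hle : closure ({s, t} : Set Q) ≤ centralizer {(s * t) ^ i} := by
        rw [closure_le]
        rintro w (rfl | rfl)
        · exact mem_centralizer_singleton_iff.2 hi.symm.eq
        · exact mem_centralizer_singleton_iff.2 hct.symm.eq
      exact mem_centralizer_singleton_iff.1 (hle (htop ▸ mem_top z))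
    have hinv : s * (s * t) ^ i * s⁻¹ = ((s * t) ^ i)⁻¹ := by
      rw [← MulAut.conj_apply, map_zpow, MulAut.conj_apply, ← inv_zpow]
      congr 1
      rw [inv_eq_of_mul_eq_one_right hs2, mul_inv_rev, inv_eq_of_mul_eq_one_right hs2,
        inv_eq_of_mul_eq_one_right ht2, ← mul_assoc, hs2, one_mul]
    have h2 : (s * t) ^ i * (s * t) ^ i = 1 := by
      have := hi.eq
      rw [← this, mul_inv_cancel_right] at hinv
      exact mul_eq_one_iff_eq_inv.2 hinv
    haveI hn : (zpowers ((s * t) ^ i)).Normal := ⟨fun z hz w => by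
      rw [show w * z * w⁻¹ = z by
        rw [mem_center_iff.1 ((zpowers_le.2 hcen) hz) w, mul_inv_cancel_right]]
      exact hz⟩
    have hp : IsPGroup 2 (zpowers ((s * t) ^ i)) := isPGroup_of_pow_eq_one fun v hv => by
      obtain ⟨j, rfl⟩ := mem_zpowers_iff.1 hv
      rw [pow_two, ← (Commute.refl ((s * t) ^ i)).mul_zpow, h2, one_zpow]
    have := hcore _ hn hp
    rwa [zpowers_eq_bot] at this
  have hVK : V ≤ K := by
    intro v hv
    obtain ⟨i, hi | hi⟩ := (Involution.mem_closure_pair_involutions hs2 ht2).1 (htop ▸ mem_top v)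
    · rw [hi, hpow1 i (hi ▸ hcs v hv)]; exact one_mem _
    · have hc : Commute ((s * t) ^ i) s := by
        have h0 : (s * t) ^ i = s * v := by conv_rhs => rw [hi, ← mul_assoc, hs2, one_mul]
        rw [h0]
        exact (Commute.refl s).mul_left (hcs v hv)
      rw [hi, hpow1 i hc, mul_one]; exact hsK
  refine eq_of_le_of_card_ge hVK ?_
  rw [hK]
  exact (Subgroup.one_lt_card_iff_ne_bot V).2 hne

namespace SL

open Matrix

variable {F : Type*} [Field F] [Fintype F] {p : ℕ} [hp : Fact p.Prime] [CharP F p]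

/-- The upper triangular subgroup. -/
def borel (F : Type*) [Field F] : Subgroup (SpecialLinearGroup (Fin 2) F) where
  carrier := {M | M.1 1 0 = 0}
  mul_mem' := by
    intro a b (ha : a.1 1 0 = 0) (hb : b.1 1 0 = 0)
    show (a * b).1 1 0 = 0
    simp [SpecialLinearGroup.coe_mul, Matrix.mul_apply, Fin.sum_univ_two, ha, hb]
  one_mem' := by simp
  inv_mem' := by
    intro a (ha : a.1 1 0 = 0)
    show (a⁻¹).1 1 0 = 0
    simp [SpecialLinearGroup.coe_inv, adjugate_fin_two, ha]

theorem unique {K : Subgroup (SpecialLinearGroup (Fin 2) F)} (hKp : IsPGroup p K)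
    (hK : Nat.card K = Nat.card F) : IsUniqueRoot p K := by
  intro V hpow hne hnorm hX
  obtain ⟨g, hg⟩ := exists_conj_upper (hKp.to_sup_of_normal_left' (isPGroup_of_pow_eq_one hpow) hnorm)
  have hcardmap : Nat.card (K.map (MulAut.conj g⁻¹).toMonoidHom) = Nat.card K :=
    (Nat.card_congr (K.equivMapOfInjective _ (MulAut.conj g⁻¹).injective).toEquiv).symm
  have hKU : K.map (MulAut.conj g⁻¹).toMonoidHom = upperGroup F := by
    refine eq_of_le_of_card_ge ?_ (by rw [hcardmap, hK]; exact card_upperGroup_le)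
    rintro _ ⟨x, hx, rfl⟩
    simpa using hg x (mem_sup_left hx)
  have hmemK : ∀ a : F, g * upper a * g⁻¹ ∈ K := fun a => by
    obtain ⟨x, hx, hxe⟩ := hKU.ge ⟨a, rfl⟩
    have : g⁻¹ * x * g = upper a := by simpa using hxe
    rw [← this, show g * (g⁻¹ * x * g) * g⁻¹ = x by group]
    exact hx
  obtain ⟨v, hv, hv1⟩ : ∃ v ∈ V, v ≠ 1 := by
    by_contra! h
    exact hne ((eq_bot_iff_forall V).2 h)
  obtain ⟨a₀, ha₀⟩ := hg v (mem_sup_right hv)
  have hva : g * upper a₀ * g⁻¹ = v := by rw [ha₀]; group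
  have ha0 : a₀ ≠ 0 := fun h0 => hv1 (by
    rw [← hva, h0, show upper (0 : F) = 1 by ext i j; fin_cases i <;> fin_cases j <;> simp [upper_val]]
    group)
  set X := (borel F).map (MulAut.conj g).toMonoidHom with hXdef
  have hKX : K ≤ X := fun x hx => by
    obtain ⟨a, ha⟩ := hg x (mem_sup_left hx)
    exact ⟨upper a, by show (upper a).1 1 0 = 0; simp [upper_val], by simp [ha, mul_assoc]⟩
  have hXne : X ≠ ⊤ := fun h => by
    have hmem : g * rot F * g⁻¹ ∈ X := h ▸ mem_top _
    obtain ⟨b, hb, hbe⟩ := hmem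
    have : b = rot F := by
      have h' : g * b * g⁻¹ = g * rot F * g⁻¹ := by simpa using hbe
      exact mul_left_cancel (mul_right_cancel h')
    subst this
    exact one_ne_zero (show (rot F).1 1 0 = 0 from hb)
  let S : AddSubgroup F :=
    { carrier := {b | g * upper (b * a₀) * g⁻¹ ∈ V}
      zero_mem' := by
        show g * upper (0 * a₀) * g⁻¹ ∈ V
        rw [zero_mul, show upper (0 : F) = 1 by
          ext i j; fin_cases i <;> fin_cases j <;> simp [upper_val], mul_one, mul_inv_cancel]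
        exact one_mem _
      add_mem' := fun {a b} ha hb => by
        show g * upper ((a + b) * a₀) * g⁻¹ ∈ V
        rw [add_mul, ← upper_mul, show g * (upper (a * a₀) * upper (b * a₀)) * g⁻¹ =
          g * upper (a * a₀) * g⁻¹ * (g * upper (b * a₀) * g⁻¹) by group]
        exact mul_mem ha hb
      neg_mem' := fun {a} ha => by
        show g * upper (-a * a₀) * g⁻¹ ∈ V
        have : upper (-a * a₀) = (upper (a * a₀))⁻¹ := by
          refine eq_inv_of_mul_eq_one_right ?_
          rw [upper_mul]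
          ext i j; fin_cases i <;> fin_cases j <;> simp [upper_val]
        rw [this, show g * (upper (a * a₀))⁻¹ * g⁻¹ = (g * upper (a * a₀) * g⁻¹)⁻¹ by group]
        exact inv_mem ha }
  have hsq : ∀ t : F, t * t ∈ S := by
    intro t
    by_cases ht : t = 0
    · rw [ht, mul_zero]; exact zero_mem _
    let d : SpecialLinearGroup (Fin 2) F := ⟨!![t, 0; 0, t⁻¹], by simp [det_fin_two, ht]⟩
    have hd : d.1 = !![t, 0; 0, t⁻¹] := rfl
    have hmem : g * d * g⁻¹ ∈ X := ⟨d, by show d.1 1 0 = 0; simp [hd], by simp⟩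
    have hconj : d * upper a₀ = upper (t * t * a₀) * d := by
      ext i j; fin_cases i <;> fin_cases j <;>
        simp [hd, upper_val, SpecialLinearGroup.coe_mul, Matrix.mul_apply, Fin.sum_univ_two]
      field_simp
    show g * upper (t * t * a₀) * g⁻¹ ∈ V
    have h1 := (mem_normalizer_iff.1 (hX X hKX hXne hmem) v).1 hv
    rw [← hva, show g * d * g⁻¹ * (g * upper a₀ * g⁻¹) * (g * d * g⁻¹)⁻¹
      = g * (d * upper a₀ * d⁻¹) * g⁻¹ by group, hconj, mul_inv_cancel_right] at h1
    exact h1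
  have hS : ∀ b : F, b ∈ S := by
    intro b
    by_cases h2 : (2 : F) = 0
    · haveI : CharP F 2 := CharTwo.of_one_ne_zero_of_two_eq_zero one_ne_zero h2
      obtain ⟨c, rfl⟩ := FiniteField.isSquare_of_char_two (ringChar.eq F 2) b
      exact hsq c
    · have : b = (b + 1) / 2 * ((b + 1) / 2) - (b - 1) / 2 * ((b - 1) / 2) := by
        field_simp; ring
      rw [this]
      exact S.sub_mem (hsq _) (hsq _)
  refine le_antisymm (fun x hx => ?_) (fun x hx => ?_)
  · obtain ⟨a, ha⟩ := hg x (mem_sup_right hx)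
    have := hmemK a
    rwa [ha, show g * (g⁻¹ * x * g) * g⁻¹ = x by group] at this
  · obtain ⟨a, ha⟩ := hg x (mem_sup_left hx)
    have h := hS (a / a₀)
    change g * upper (a / a₀ * a₀) * g⁻¹ ∈ V at h
    rwa [div_mul_cancel₀ _ ha0, ha, show g * (g⁻¹ * x * g) * g⁻¹ = x by group] at h

end SL

section Sz

open Cfsg.Agent.Suzuki

variable {F : Type*} [Field F] [Fintype F] {m : ℕ} (hF : Fintype.card F = 2 ^ (2 * m + 1))
include hF

theorem sz_unique (hm : 1 ≤ m) {K : Subgroup (Cfsg.Sz F m)} (hKpow : ∀ k ∈ K, k ^ 2 = 1)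
    (hK : Nat.card K = 2 ^ (2 * m + 1)) : IsUniqueRoot 2 K := by
  haveI : Fact (Nat.Prime 2) := ⟨Nat.prime_two⟩
  intro V hpow hne hnorm hX
  obtain ⟨Q, hQ⟩ : ∃ Q : Sylow 2 (Cfsg.Sz F m), (Q : Subgroup (Cfsg.Sz F m)) = USub hF :=
    ⟨(isPGroup_USub hF).toSylow (index_USub_odd hF hm),
      IsPGroup.toSylow_coe (isPGroup_USub hF) (index_USub_odd hF hm)⟩
  obtain ⟨P, hP⟩ := ((isPGroup_of_pow_eq_one hKpow).to_sup_of_normal_left'
    (isPGroup_of_pow_eq_one hpow) hnorm).exists_le_sylow
  obtain ⟨g, hg⟩ := MulAction.exists_smul_eq (Cfsg.Sz F m) Q P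
  have hinv : ∀ x ∈ K ⊔ V, x ^ 2 = 1 → ∃ b, g * U hF 0 b * g⁻¹ = x := by
    intro x hx hx2
    have hxP := hP hx
    rw [← hg, Sylow.coe_subgroup_smul] at hxP
    obtain ⟨u, hu, rfl⟩ := hxP
    rw [hQ] at hu
    obtain ⟨a, b, rfl⟩ := hu
    have h2 : U hF a b ^ 2 = 1 := by
      have h3 : MulAut.conj g (U hF a b ^ 2) = 1 := by rw [map_pow]; exact hx2
      exact (map_eq_one_iff _ (MulAut.conj g).injective).1 h3
    rw [pow_two, U_mul, add_self hF, add_self hF, zero_add, ← U_zero hF] at h2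
    have ha : a = 0 := by
      rcases mul_eq_zero.1 (U_inj hF h2).2 with h4 | h4
      · exact sig_eq_zero.1 h4
      · exact h4
    subst ha
    exact ⟨b, rfl⟩
  have hmemK : ∀ b : F, g * U hF 0 b * g⁻¹ ∈ K := by
    let Z : Set (Cfsg.Sz F m) := Set.range fun b => g * U hF 0 b * g⁻¹
    have hsub : (K : Set (Cfsg.Sz F m)) ⊆ Z := fun x hx =>
      hinv x (mem_sup_left hx) (hKpow x hx)
    have hle : Z.ncard ≤ (K : Set (Cfsg.Sz F m)).ncard := by
      rw [← Nat.card_coe_set_eq, ← Nat.card_coe_set_eq]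
      refine (Finite.card_range_le _).trans ?_
      rw [Nat.card_eq_fintype_card, hF]
      exact hK.ge
    have heq := Set.eq_of_subset_of_ncard_le hsub hle (Set.toFinite _)
    intro b
    exact heq.ge ⟨b, rfl⟩
  obtain ⟨v, hv, hv1⟩ : ∃ v ∈ V, v ≠ 1 := by
    by_contra! h
    exact hne ((eq_bot_iff_forall V).2 h)
  obtain ⟨b₀, hb₀⟩ := hinv v (mem_sup_right hv) (hpow v hv)
  have hb0 : b₀ ≠ 0 := fun h0 => hv1 (by rw [← hb₀, h0, U_zero, mul_one, mul_inv_cancel])
  set B := MulAction.stabilizer (Cfsg.Sz F m) (g • Cfsg.suzukiPointInfinity F)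
  have hKB : K ≤ B := fun x hx => by
    obtain ⟨b, rfl⟩ := hinv x (mem_sup_left hx) (hKpow x hx)
    show (g * U hF 0 b * g⁻¹) • (g • Cfsg.suzukiPointInfinity F) = g • Cfsg.suzukiPointInfinity F
    rw [smul_smul, inv_mul_cancel_right, mul_smul, U_smul_inf]
  have hBne : B ≠ ⊤ := fun h => by
    have hW : (g * W hF * g⁻¹) • (g • Cfsg.suzukiPointInfinity F) = g • Cfsg.suzukiPointInfinity F :=
      (h ▸ mem_top _ : g * W hF * g⁻¹ ∈ B)
    rw [smul_smul, inv_mul_cancel_right, mul_smul, W_smul_inf] at hW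
    exact pt_ne_inf 0 0 (MulAction.injective g hW)
  refine le_antisymm (fun x hx => ?_) (fun x hx => ?_)
  · obtain ⟨b, rfl⟩ := hinv x (mem_sup_right hx) (hpow x hx)
    exact hmemK b
  · obtain ⟨b, rfl⟩ := hinv x (mem_sup_left hx) (hKpow x hx)
    by_cases hb : b = 0
    · rw [hb, U_zero, mul_one, mul_inv_cancel]; exact one_mem _
    let φ : Fˣ →* Fˣ :=
      { toFun := fun k => k * Units.mk0 (sig m (k : F)) (sig_ne_zero k.ne_zero)
        map_one' := Units.ext (by simp [sig_one])
        map_mul' := fun k l => Units.ext (by simp [sig_mul]; ring) }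
    have hφ : Function.Injective φ := (injective_iff_map_eq_one φ).2 fun k hk => by
      have := congrArg Units.val hk
      simp [φ] at this
      exact Units.ext (eq_one_of_mul_sig hF k.ne_zero this)
    obtain ⟨k, hk⟩ := (Finite.injective_iff_surjective.1 hφ) (Units.mk0 (b / b₀) (div_ne_zero hb hb0))
    have hk' : (k : F) * sig m (k : F) = b / b₀ := by simpa [φ] using congrArg Units.val hk
    have hT : g * T hF k * g⁻¹ ∈ B := by
      show (g * T hF k * g⁻¹) • (g • Cfsg.suzukiPointInfinity F) = g • Cfsg.suzukiPointInfinity F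
      rw [smul_smul, inv_mul_cancel_right, mul_smul, T_smul_inf]
    have h1 := (mem_normalizer_iff.1 (hX B hKB hBne hT) v).1 hv
    rw [← hb₀, show g * T hF k * g⁻¹ * (g * U hF 0 b₀ * g⁻¹) * (g * T hF k * g⁻¹)⁻¹
      = g * (T hF k * U hF 0 b₀ * (T hF k)⁻¹) * g⁻¹ by group, T_conj_U, mul_zero, hk',
      div_mul_cancel₀ _ hb0] at h1
    exact h1

end Sz

end Cfsg.Agent.FrakL82
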