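import Cfsg.Agent.LargeSub.Reduced
import Cfsg.Agent.FrakL82.Unique
import Cfsg.Agent.Lib.RankOne.SzBridge
import Cfsg.Prelude.Def_LocalStructure

/-!
The image of `Y_M` in a member of the family `𝔏(Y_M)`.
-/

set_option autoImplicit false
set_option linter.style.haveILetI false

namespace Cfsg.Agent.FrakL82

open Subgroup Cfsg

variable {G : Type*} [Group G] [Finite G] {p : ℕ} [Fact p.Prime] {M L : Subgroup G}

/-- The image of `Y_M` in `L ⧸ O_p(L)`. -/
noncomputable def rootImage (p : ℕ) (M L : Subgroup G) [(pCore p ↥L).Normal] :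
    Subgroup (↥L ⧸ pCore p ↥L) :=
  ((largestPReducedOf p M).subgroupOf L).map (QuotientGroup.mk' (pCore p ↥L))

omit [Finite G] [Fact p.Prime] in
theorem pow_rootImage [(pCore p ↥L).Normal] : ∀ k ∈ rootImage p M L, k ^ p = 1 := by
  rintro _ ⟨y, hy, rfl⟩
  rw [← map_pow, show y ^ p = 1 from
    Subtype.ext (by simpa using (LargeSub.isElementaryAbelian_largestPReducedOf (p := p) M).2 _ hy),
    map_one]

theorem card_rootImage [(pCore p ↥L).Normal] (hYL : largestPReducedOf p M ≤ L) :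
    Nat.card (rootImage p M L) =
      (largestPReducedOf p M ⊓ pCoreOf p L).relIndex (largestPReducedOf p M) := by
  have h1 : (pCore p ↥L).relIndex ((largestPReducedOf p M).subgroupOf L) =
      Nat.card (rootImage p M L) := by
    conv_lhs => rw [← QuotientGroup.ker_mk' (pCore p ↥L)]
    exact Subgroup.relIndex_ker _ _
  have h2 : (pCoreOf p L).subgroupOf L = pCore p ↥L :=
    comap_map_eq_self_of_injective L.subtype_injective _
  rw [← h1, inf_relIndex_left, ← h2, Subgroup.relIndex_subgroupOf hYL]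

theorem core_eq_bot [(pCore p ↥L).Normal] (N : Subgroup (↥L ⧸ pCore p ↥L)) (hN : N.Normal)
    (hNp : IsPGroup p N) : N = ⊥ := by
  have hcomap : IsPGroup p (N.comap (QuotientGroup.mk' (pCore p ↥L))) := by
    refine hNp.comap_of_ker_isPGroup _ ?_
    rw [QuotientGroup.ker_mk']; exact Thompson.isPGroup_pCore
  have hle : N.comap (QuotientGroup.mk' (pCore p ↥L)) ≤ pCore p ↥L :=
    le_sSup ⟨hN.comap _, hcomap⟩
  refine (eq_bot_iff_forall N).2 fun n hn => ?_
  obtain ⟨z, rfl⟩ := QuotientGroup.mk'_surjective (pCore p ↥L) n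
  exact (QuotientGroup.eq_one_iff z).2 (hle hn)

theorem mem_normalizer_of_proper [(pCore p ↥L).Normal] (hL : IsInFrakL p M L)
    {X : Subgroup (↥L ⧸ pCore p ↥L)} (hX : rootImage p M L ≤ X) (hne : X ≠ ⊤) {z : ↥L}
    (hz : QuotientGroup.mk' (pCore p ↥L) z ∈ X) :
    (z : G) ∈ L ⊓ normalizer (largestPReducedOf p M : Set G) := by
  obtain ⟨hYL, -, -, -, -, ⟨-, hmax⟩, -⟩ := hL
  set Z := X.comap (QuotientGroup.mk' (pCore p ↥L))
  refine hmax (Z.map L.subtype) (fun y hy => ⟨⟨y, hYL hy⟩, hX ⟨⟨y, hYL hy⟩, hy, rfl⟩, rfl⟩)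
    (lt_of_le_of_ne (map_subtype_le Z) fun he => hne ?_) ⟨z, hz, rfl⟩
  have hZ : Z = ⊤ := map_injective L.subtype_injective
    (by rw [he, ← MonoidHom.range_eq_map, Subgroup.range_subtype])
  rw [← map_comap_eq_self_of_surjective (QuotientGroup.mk'_surjective _) X]
  show Z.map _ = ⊤
  rw [hZ, map_top_of_surjective _ (QuotientGroup.mk'_surjective _)]

theorem max_rootImage [(pCore p ↥L).Normal] (hL : IsInFrakL p M L)
    (X : Subgroup (↥L ⧸ pCore p ↥L)) (hX : rootImage p M L ≤ X) (hne : X ≠ ⊤) :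
    X ≤ normalizer (rootImage p M L : Set (↥L ⧸ pCore p ↥L)) := by
  intro x hx
  obtain ⟨z, rfl⟩ := QuotientGroup.mk'_surjective (pCore p ↥L) x
  refine le_normalizer_map _ ⟨z, ?_, rfl⟩
  rw [SetLike.mem_coe, mem_normalizer_iff]
  intro w
  exact mem_normalizer_iff.1 (mem_inf.1 (mem_normalizer_of_proper hL hX hne hx)).2 w.1

theorem rootImage_ne_bot [(pCore p ↥L).Normal] (hL : IsInFrakL p M L) :
    rootImage p M L ≠ ⊥ := by
  obtain ⟨hYL, -, -, hmin, -, -, hiso⟩ := hL
  intro hbot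
  have hle : (largestPReducedOf p M).subgroupOf L ≤ pCore p ↥L := by
    intro y hy
    have : QuotientGroup.mk' (pCore p ↥L) y ∈ rootImage p M L := ⟨y, hy, rfl⟩
    rw [hbot, mem_bot] at this
    exact (QuotientGroup.eq_one_iff y).1 this
  have htop : pCore p ↥L = ⊤ := eq_top_iff.2 (hmin.1 ▸ normalClosure_le_normal hle)
  haveI : Subsingleton (↥L ⧸ pCore p ↥L) := QuotientGroup.subsingleton_iff.2 htop
  rcases hiso with ⟨F, _, _, hq, -⟩ | ⟨-, F, _, _, m, -, hq, -⟩ | ⟨-, r, hr, -, ⟨e⟩⟩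
  · rw [← card_rootImage hYL, hbot, card_bot] at hq
    exact absurd hq Fintype.one_lt_card.ne'
  · rw [← card_rootImage hYL, hbot, card_bot] at hq
    exact absurd hq Fintype.one_lt_card.ne'
  · have h1 : Nat.card (DihedralGroup r) = 1 := by
      rw [← Nat.card_congr e.toEquiv]
      exact Nat.card_eq_one_iff_unique.2 ⟨inferInstance, ⟨1⟩⟩
    rw [DihedralGroup.nat_card] at h1
    omega

theorem unique_rootImage [(pCore p ↥L).Normal] (hL : IsInFrakL p M L) :
    IsUniqueRoot p (rootImage p M L) := by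
  have hne := rootImage_ne_bot hL
  have hmax := max_rootImage hL
  have hKpow := pow_rootImage (p := p) (M := M) (L := L)
  have hKp : IsPGroup p (rootImage p M L) := isPGroup_of_pow_eq_one hKpow
  obtain ⟨hYL, -, -, -, -, -, hiso⟩ := hL
  have hcard := card_rootImage (p := p) (M := M) hYL
  generalize rootImage p M L = K at hne hmax hKpow hKp hcard ⊢
  rcases hiso with ⟨F, _, _, hq, ⟨e⟩⟩ | ⟨hp2, F, _, _, m, hF, hq, ⟨e⟩⟩ | ⟨hp2, r, hr, hr2, ⟨e⟩⟩
  · rw [← hcard] at hq
    obtain ⟨n, hn⟩ := IsPGroup.iff_card.1 hKp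
    rw [hn] at hq
    haveI : CharP F p := by
      have hn1 : n ≠ 0 := fun h0 => by
        rw [h0, pow_zero] at hq
        exact absurd hq Fintype.one_lt_card.ne'
      exact charP_of_card_eq_prime_pow (f := n) hq
    refine IsUniqueRoot.of_equiv e (SL.unique (hKp.map _) ?_)
    rw [← Nat.card_congr (K.equivMapOfInjective _ e.injective).toEquiv, hn,
      Nat.card_eq_fintype_card, hq]
  · subst hp2
    rw [← hcard] at hq
    rcases Nat.eq_zero_or_pos m with hm | hm
    · subst hm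
      exact unique_of_card_two (by rw [← hq, hF]; norm_num) core_eq_bot hmax
    let e' : ↥L ⧸ pCore 2 ↥L ≃* Cfsg.Sz F m := e.trans (RankOne.SzBridge.szEquiv hF hm).symm
    refine IsUniqueRoot.of_equiv e' (sz_unique hF hm ?_ ?_)
    · rintro _ ⟨k, hk, rfl⟩
      rw [← map_pow, hKpow k hk, map_one]
    · rw [← Nat.card_congr (K.equivMapOfInjective _ e'.injective).toEquiv, ← hq, hF]
  · subst hp2
    refine unique_of_card_two ?_ core_eq_bot hmax
    have hcardQ : Nat.card (↥L ⧸ pCore 2 ↥L) = 2 * r := by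
      rw [Nat.card_congr e.toEquiv, DihedralGroup.nat_card]
    obtain ⟨n, hn⟩ := IsPGroup.iff_card.1 hKp
    have hdvd : 2 ^ n ∣ 2 * r := hn ▸ hcardQ ▸ card_subgroup_dvd_card K
    have hn1 : n ≤ 1 := by
      by_contra hcon
      have h4 : 2 ^ 2 ∣ 2 * r := (pow_dvd_pow 2 (by omega)).trans hdvd
      have h2r : 2 ∣ r := (Nat.mul_dvd_mul_iff_left (by norm_num : 0 < 2)).1 (by simpa using h4)
      exact hr2 ((Nat.prime_dvd_prime_iff_eq Nat.prime_two hr).1 h2r).symm
    interval_cases n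
    · exact absurd (eq_bot_of_card_eq K (by rw [hn]; norm_num)) hne
    · simpa using hn

end Cfsg.Agent.FrakL82
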