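import Cfsg.Agent.FrakL82.Core
import Cfsg.Agent.Lib.Involution.BaerSuzuki
import Cfsg.Agent.Lib.Involution.Dihedral

/-!
The condition on the quotient `L ⧸ A` that makes every element of order not a power of `p`
fixed-point-free, and the case where the image of `Y` has order two.
-/

set_option autoImplicit false
set_option linter.style.haveILetI false

namespace Cfsg.Agent.FrakL82

open Subgroup
open scoped commutatorElement

section Quot

variable {Q : Type*} [Group Q]

/-- `s` lies in a conjugate of `K`. -/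
def IsRoot (K : Subgroup Q) (s : Q) : Prop := ∃ c : Q, c⁻¹ * s * c ∈ K

theorem IsRoot.of_mem {K : Subgroup Q} {s : Q} (hs : s ∈ K) : IsRoot K s := ⟨1, by simpa using hs⟩

theorem IsRoot.conj {K : Subgroup Q} {s : Q} (hs : IsRoot K s) (g : Q) :
    IsRoot K (g * s * g⁻¹) := by
  obtain ⟨c, hc⟩ := hs
  exact ⟨g * c, by simpa [mul_assoc] using hc⟩

/-- `x` is a product of two root elements, or the central square of such a product with an
auxiliary root element. -/
def IsGood (p : ℕ) (K : Subgroup Q) (x : Q) : Prop :=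
  (∃ s t, IsRoot K s ∧ IsRoot K t ∧ x = s * t) ∨
    ∃ s t u, IsRoot K s ∧ IsRoot K t ∧ IsRoot K u ∧ x = s * t * (s * t) ∧
      ¬ IsPGroup p (closure ({u⁻¹, s * t * u * (s * t)⁻¹} : Set Q)) ∧ ∀ g : Q, Commute g x

theorem not_isPGroup_of_mem {p r : ℕ} [hp : Fact p.Prime] (hr : r.Prime) (hrp : r ≠ p)
    {H : Subgroup Q} {x : Q} (hx : x ∈ H) (hrx : r ∣ orderOf x) : ¬ IsPGroup p H := by
  intro h
  obtain ⟨k, hk⟩ := (IsPGroup.iff_orderOf.1 h) ⟨x, hx⟩
  rw [← Subgroup.orderOf_coe] at hk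
  exact hrp ((Nat.prime_dvd_prime_iff_eq hr hp.out).1 (hr.dvd_of_dvd_pow (hk ▸ hrx)))

end Quot

variable {L : Type*} [Group L] [Finite L] {p : ℕ} [hp : Fact p.Prime] {Y A : Subgroup L} [A.Normal]

omit [Finite L] hp in
theorem exists_lift {s : L ⧸ A} (hs : IsRoot (Y.map (QuotientGroup.mk' A)) s) :
    ∃ g y : L, y ∈ Y.map (MulAut.conj g).toMonoidHom ∧ QuotientGroup.mk' A y = s := by
  obtain ⟨c, z, hz, hzc⟩ := hs
  obtain ⟨g, rfl⟩ := QuotientGroup.mk'_surjective A c
  refine ⟨g, g * z * g⁻¹, ⟨z, hz, rfl⟩, ?_⟩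
  rw [map_mul, map_mul, map_inv, hzc]; group

omit [Finite L] hp in
theorem not_isPGroup_lift {y₁ y₂ : L}
    (h : ¬ IsPGroup p (closure ({QuotientGroup.mk' A y₁, QuotientGroup.mk' A y₂} : Set (L ⧸ A)))) :
    ¬ IsPGroup p (closure ({y₁, y₂} : Set L)) := by
  intro h'
  refine h ?_
  have := h'.map (QuotientGroup.mk' A)
  rwa [MonoidHom.map_closure, Set.image_pair] at this

/-- The main result of the setup. -/
theorem free {C : Subgroup L} [C.Normal] (h : Setup p Y A) (hC : C = Y ⊓ center L)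
    (hgood : ∀ (r : ℕ), r.Prime → r ≠ p → ∀ x : L ⧸ A, orderOf x = r →
      IsGood p (Y.map (QuotientGroup.mk' A)) x)
    {x : L} (hx : ¬ ∃ k, orderOf x = p ^ k) {a : L} (ha : a ∈ A)
    (hfix : Commute (QuotientGroup.mk' C x) (QuotientGroup.mk' C a)) : a ∈ C := by
  obtain ⟨r, hr, hrp, hrd⟩ : ∃ r, r.Prime ∧ r ≠ p ∧ r ∣ orderOf ((QuotientGroup.mk' A) x) := by
    by_contra hall
    push Not at hall
    have h1 : ∃ k, orderOf ((QuotientGroup.mk' A) x) = p ^ k := ⟨_, Nat.eq_prime_pow_of_unique_prime_dvd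
      (orderOf_pos ((QuotientGroup.mk' A) x)).ne' fun {d} hd hdd => by_contra fun hne => hall d hd hne hdd⟩
    obtain ⟨k, hk⟩ := h1
    have h2 : x ^ p ^ k ∈ A := by
      rw [← QuotientGroup.eq_one_iff]
      show (QuotientGroup.mk' A) (x ^ p ^ k) = 1
      rw [map_pow, ← hk, pow_orderOf_eq_one]
    obtain ⟨j, hj⟩ := h.pA ⟨_, h2⟩
    have hj' : (x ^ p ^ k) ^ p ^ j = 1 := congrArg Subtype.val hj
    rw [← pow_mul, ← pow_add] at hj'
    obtain ⟨i, -, hi⟩ := (Nat.dvd_prime_pow hp.out).1 (orderOf_dvd_of_pow_eq_one hj')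
    exact hx ⟨i, hi⟩
  set n := orderOf ((QuotientGroup.mk' A) x) / r
  have hxr : orderOf ((QuotientGroup.mk' A) (x ^ n)) = r := by
    rw [map_pow]; exact orderOf_pow_orderOf_div (orderOf_pos _).ne' hrd
  have hfix' : Commute (QuotientGroup.mk' C (x ^ n)) (QuotientGroup.mk' C a) := by
    rw [map_pow]; exact hfix.pow_left n
  rcases hgood r hr hrp _ hxr with ⟨s, t, hs, ht, hst⟩ | ⟨s, t, u, hs, ht, hu, hst, hnu, hc⟩
  · obtain ⟨g₁, y₁, hy1, rfl⟩ := exists_lift hs
    obtain ⟨g₂, y₂, hy2, rfl⟩ := exists_lift ht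
    refine free_of_product h hC g₁ g₂ hy1 hy2 (not_isPGroup_lift (A := A) ?_) ?_ ha hfix'
    · exact not_isPGroup_of_mem hr hrp (mul_mem (subset_closure (Set.mem_insert _ _))
        (subset_closure (Set.mem_insert_of_mem _ rfl))) (by rw [← hst, hxr])
    · rw [← QuotientGroup.eq_one_iff]
      show (QuotientGroup.mk' A) _ = 1
      rw [map_mul, map_inv, map_mul, hst]; group
  · obtain ⟨g₁, y₁, hy1, rfl⟩ := exists_lift hs
    obtain ⟨g₂, y₂, hy2, rfl⟩ := exists_lift ht
    obtain ⟨g₃, w, hw, rfl⟩ := exists_lift hu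
    refine free_of_square h hC g₁ g₂ g₃ hy1 hy2 hw (not_isPGroup_lift (A := A) ?_) (not_isPGroup_lift (A := A) ?_)
      ?_ (fun g => ?_) ha hfix'
    · refine not_isPGroup_of_mem hr hrp (mul_mem (subset_closure (Set.mem_insert _ _))
        (subset_closure (Set.mem_insert_of_mem _ rfl))) ?_
      have h1 : r = orderOf (((QuotientGroup.mk' A) y₁ * (QuotientGroup.mk' A) y₂) ^ 2) := by rw [pow_two, ← hst, hxr]
      exact h1 ▸ orderOf_pow_dvd 2
    · rw [(QuotientGroup.mk' A).map_inv, (QuotientGroup.mk' A).map_mul (y₁ * y₂ * w), (QuotientGroup.mk' A).map_mul (y₁ * y₂), (QuotientGroup.mk' A).map_mul y₁, (QuotientGroup.mk' A).map_inv (y₁ * y₂), (QuotientGroup.mk' A).map_mul y₁]; exact hnu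
    · rw [← QuotientGroup.eq_one_iff]
      show (QuotientGroup.mk' A) _ = 1
      rw [map_mul (QuotientGroup.mk' A) _ (x ^ n), map_inv, map_mul, map_mul, hst]; group
    · rw [← QuotientGroup.eq_one_iff]
      show (QuotientGroup.mk' A) _ = 1
      rw [map_commutatorElement, commutatorElement_eq_one_iff_commute]
      exact hc _

section Quot

variable {Q : Type*} [Group Q] [Finite Q]

/-- If an involution generates with each element outside its normaliser everything, and `O₂ = 1`,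
then elements of odd prime order are products of two conjugates. -/
theorem good_of_card_two [Fact (Nat.Prime 2)] {K : Subgroup Q} (hK : Nat.card K = 2)
    (hcore : ∀ N : Subgroup Q, N.Normal → IsPGroup 2 N → N = ⊥)
    (hmax : ∀ X : Subgroup Q, K ≤ X → X ≠ ⊤ → X ≤ normalizer (K : Set Q))
    (r : ℕ) (hr : r.Prime) (hr2 : r ≠ 2) (x : Q) (hx : orderOf x = r) : IsGood 2 K x := by
  obtain ⟨s, hsK, hs1⟩ : ∃ s ∈ K, s ≠ 1 := by
    rw [← not_forall_not]
    intro h
    have : K = ⊥ := (eq_bot_iff_forall K).2 fun a ha => by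
      by_contra hne; exact h a ⟨ha, hne⟩
    rw [this, card_bot] at hK; omega
  have hs2 : s * s = 1 := by
    have h2 := pow_card_eq_one' (G := K) (x := ⟨s, hsK⟩)
    rw [hK, pow_two] at h2
    exact congrArg Subtype.val h2
  have hKs : ∀ k ∈ K, k = 1 ∨ k = s := by
    intro k hk
    by_contra hcon
    push Not at hcon
    have h3 := Nat.card_le_card_of_injective
      (f := fun i : Fin 3 => (![⟨1, K.one_mem⟩, ⟨s, hsK⟩, ⟨k, hk⟩] : Fin 3 → K) i)
      (by intro i j hij; fin_cases i <;> fin_cases j <;>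
        simp_all [Subtype.ext_iff, eq_comm])
    rw [Nat.card_eq_fintype_card, Fintype.card_fin, hK] at h3; omega
  obtain ⟨g, hg⟩ : ∃ g : Q, ¬ IsPGroup 2 (closure ({s, g * s * g⁻¹} : Set Q)) := by
    by_contra hall
    push Not at hall
    obtain ⟨N, hN, hNp, hsN⟩ := Involution.baerSuzuki s hall
    rw [hcore N hN hNp, mem_bot] at hsN
    exact hs1 hsN
  set t := g * s * g⁻¹ with ht
  have ht2 : t * t = 1 := by rw [ht]; simp [mul_assoc, ← mul_assoc s s, hs2]
  have htop : closure ({s, t} : Set Q) = ⊤ := by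
    by_contra hne
    have hle := hmax _ (fun k hk => by
      rcases hKs k hk with rfl | rfl
      · exact one_mem _
      · exact subset_closure (Set.mem_insert _ _)) hne
    have h1 : t * s * t⁻¹ ∈ K :=
      (mem_normalizer_iff.1 (hle (subset_closure (Set.mem_insert_of_mem _ rfl))) s).1 hsK
    have hKp : IsPGroup 2 K := IsPGroup.of_card (n := 1) (by simp [hK])
    have hp : IsPGroup 2 (zpowers t) :=
      (hKp.map (MulAut.conj g).toMonoidHom).to_le (zpowers_le.2 ⟨s, hsK, rfl⟩)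
    refine hg ((hKp.to_sup_of_normal_left' hp (zpowers_le.2 ?_)).to_le ((closure_le _).2 ?_))
    · exact hle (subset_closure (Set.mem_insert_of_mem _ rfl))
    · rintro z (rfl | rfl)
      · exact mem_sup_left hsK
      · exact mem_sup_right (mem_zpowers _)
  have hinv : ∀ i : ℤ, s * (s * t) ^ i = (s * t) ^ (-i) * s := fun i => by
    have h1 : SemiconjBy s (s * t) (t * s) := by
      show s * (s * t) = t * s * s
      rw [← mul_assoc, hs2, one_mul, mul_assoc, hs2, mul_one]
    have h2 : t * s = (s * t)⁻¹ := by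
      rw [mul_inv_rev, inv_eq_of_mul_eq_one_right hs2, inv_eq_of_mul_eq_one_right ht2]
    have h3 := h1.zpow_right i
    rw [h2, inv_zpow, ← zpow_neg] at h3
    exact h3
  have hodd : Odd r := hr.odd_of_ne_two hr2
  obtain ⟨k, hk⟩ := hodd
  have hw : x ^ (k + 1) * x ^ (k + 1) = x := by
    rw [← pow_add, show k + 1 + (k + 1) = orderOf x + 1 by omega, pow_succ, pow_orderOf_eq_one,
      one_mul]
  obtain ⟨i, hi | hi⟩ := (Involution.mem_closure_pair_involutions hs2 ht2).1
    (htop ▸ mem_top (x ^ (k + 1)))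
  · left
    refine ⟨s, (s * t) ^ (-i) * s * ((s * t) ^ (-i))⁻¹, IsRoot.of_mem hsK,
      (IsRoot.of_mem hsK).conj _, ?_⟩
    have h0 : x = (s * t) ^ i * (s * t) ^ i := by rw [← hi, hw]
    rw [h0]
    symm
    calc s * ((s * t) ^ (-i) * s * ((s * t) ^ (-i))⁻¹)
        = (s * (s * t) ^ (-i)) * (s * (s * t) ^ i) := by rw [← zpow_neg, neg_neg]; group
      _ = (s * t) ^ i * (s * (s * (s * t) ^ i)) := by rw [hinv (-i), neg_neg]; group
      _ = (s * t) ^ i * (s * t) ^ i := by rw [← mul_assoc s s, hs2, one_mul]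
  · exfalso
    have h1 : x ^ (k + 1) * x ^ (k + 1) = 1 := by
      rw [hi]
      calc s * (s * t) ^ i * (s * (s * t) ^ i)
          = (s * t) ^ (-i) * (s * s) * (s * t) ^ i :=
            (congrArg (· * (s * (s * t) ^ i)) (hinv i)).trans (by simp only [mul_assoc])
        _ = 1 := by rw [hs2]; group
    rw [hw] at h1
    rw [h1, orderOf_one] at hx
    exact hr.ne_one hx.symm

end Quot

end Cfsg.Agent.FrakL82
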