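import Cfsg.Agent.FrakL82.Roots

/-!
In `SL(2, q)` every element of prime order prime to the characteristic is good for the root
groups.
-/

set_option autoImplicit false
set_option linter.style.haveILetI false

namespace Cfsg.Agent.FrakL82

open Subgroup

section Map

variable {Q R : Type*} [Group Q] [Group R] {p : ℕ}

theorem IsRoot.map {K : Subgroup Q} {s : Q} (h : IsRoot K s) (e : Q ≃* R) :
    IsRoot (K.map e.toMonoidHom) (e s) := by
  obtain ⟨c, hc⟩ := h
  exact ⟨e c, _, hc, by simp⟩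

theorem IsGood.map {K : Subgroup Q} {x : Q} (h : IsGood p K x) (e : Q ≃* R) :
    IsGood p (K.map e.toMonoidHom) (e x) := by
  rcases h with ⟨s, t, hs, ht, rfl⟩ | ⟨s, t, u, hs, ht, hu, rfl, hnp, hc⟩
  · exact Or.inl ⟨e s, e t, hs.map e, ht.map e, map_mul e s t⟩
  · refine Or.inr ⟨e s, e t, e u, hs.map e, ht.map e, hu.map e, by simp, fun h => hnp ?_, fun g => ?_⟩
    · have h' := h.map e.symm.toMonoidHom
      rw [MonoidHom.map_closure, Set.image_pair] at h'
      have e1 : e.symm.toMonoidHom (e u)⁻¹ = u⁻¹ := by simp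
      have e2 : e.symm.toMonoidHom (e s * e t * e u * (e s * e t)⁻¹) = s * t * u * (s * t)⁻¹ := by
        simp
      rw [e1, e2] at h'
      exact h'
    · simpa using (hc (e.symm g)).map e

theorem IsGood.of_equiv {K : Subgroup Q} {x : Q} (e : Q ≃* R)
    (h : IsGood p (K.map e.toMonoidHom) (e x)) : IsGood p K x := by
  have := h.map e.symm
  rwa [map_map, e.symm_apply_apply, show e.symm.toMonoidHom.comp e.toMonoidHom = MonoidHom.id Q from
    MonoidHom.ext e.symm_apply_apply, map_id] at this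

end Map

namespace SL

open Matrix

variable {F : Type*} [Field F]

/-- Upper unitriangular element. -/
def upper (b : F) : SpecialLinearGroup (Fin 2) F := ⟨!![1, b; 0, 1], by simp [det_fin_two]⟩

/-- Lower unitriangular element. -/
def lower (b : F) : SpecialLinearGroup (Fin 2) F := ⟨!![1, 0; b, 1], by simp [det_fin_two]⟩

/-- The rotation. -/
def rot (F : Type*) [Field F] : SpecialLinearGroup (Fin 2) F :=
  ⟨!![0, -1; 1, 0], by simp [det_fin_two]⟩

theorem upper_val (b : F) : (upper b).1 = !![1, b; 0, 1] := rfl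

theorem lower_val (b : F) : (lower b).1 = !![1, 0; b, 1] := rfl

theorem rot_val : (rot F).1 = !![0, -1; 1, 0] := rfl

theorem upper_mul (a b : F) : upper a * upper b = upper (a + b) := by
  ext i j; fin_cases i <;> fin_cases j <;> simp [upper_val, SpecialLinearGroup.coe_mul, Matrix.mul_apply, add_comm]

/-- The upper unitriangular subgroup. -/
def upperGroup (F : Type*) [Field F] : Subgroup (SpecialLinearGroup (Fin 2) F) where
  carrier := Set.range upper
  mul_mem' := by rintro _ _ ⟨a, rfl⟩ ⟨b, rfl⟩; exact ⟨a + b, (upper_mul a b).symm⟩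
  one_mem' := ⟨0, by ext i j; fin_cases i <;> fin_cases j <;> simp [upper_val]⟩
  inv_mem' := by
    rintro _ ⟨a, rfl⟩
    refine ⟨-a, eq_inv_of_mul_eq_one_right ?_⟩
    rw [upper_mul, add_neg_cancel]
    ext i j; fin_cases i <;> fin_cases j <;> simp [upper_val]

variable [Fintype F] {p : ℕ} [hp : Fact p.Prime] [CharP F p]

omit hp [Fintype F] [CharP F p] in
theorem card_upperGroup_le [Finite F] : Nat.card (upperGroup F) ≤ Nat.card F :=
  Nat.card_le_card_of_surjective (fun b : F => (⟨upper b, b, rfl⟩ : upperGroup F))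
    (by rintro ⟨_, b, rfl⟩; exact ⟨b, rfl⟩)

theorem exists_conj_upper {P : Subgroup (SpecialLinearGroup (Fin 2) F)} (hP : IsPGroup p P) :
    ∃ g : SpecialLinearGroup (Fin 2) F, ∀ h ∈ P, g⁻¹ * h * g ∈ upperGroup F := by
  letI : MulAction P (Fin 2 → F) :=
    { smul := fun h v => (h : SpecialLinearGroup (Fin 2) F).1 *ᵥ v
      one_smul := fun v => by
        show ((1 : P) : SpecialLinearGroup (Fin 2) F).1 *ᵥ v = v
        simp
      mul_smul := fun a b v => by
        show ((a * b : P) : SpecialLinearGroup (Fin 2) F).1 *ᵥ v = _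
        exact (mulVec_mulVec v (a : SpecialLinearGroup (Fin 2) F).1
          (b : SpecialLinearGroup (Fin 2) F).1).symm }
  have hdvd : p ∣ Nat.card (Fin 2 → F) := by
    obtain ⟨n, -, hn⟩ := FiniteField.card F p
    rw [Nat.card_fun, Nat.card_eq_fintype_card, hn, Nat.card_eq_fintype_card, Fintype.card_fin]
    exact dvd_pow (dvd_pow_self p n.ne_zero) two_ne_zero
  have h0 : (0 : Fin 2 → F) ∈ MulAction.fixedPoints P (Fin 2 → F) := fun h => by
    show (h : SpecialLinearGroup (Fin 2) F).1 *ᵥ (0 : Fin 2 → F) = 0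
    exact mulVec_zero _
  obtain ⟨v, hv, hv0⟩ := hP.exists_fixed_point_of_prime_dvd_card_of_fixed_point _ hdvd h0
  obtain ⟨g, hg⟩ : ∃ g : SpecialLinearGroup (Fin 2) F, g.1 *ᵥ ![1, 0] = v := by
    by_cases h : v 0 = 0
    · have h1 : v 1 ≠ 0 := fun h1 => hv0 (funext fun i => by fin_cases i <;> simp [h, h1])
      refine ⟨⟨!![0, -(v 1)⁻¹; v 1, 0], by simp [det_fin_two, h1]⟩, ?_⟩
      ext i; fin_cases i <;> simp [h]
    · refine ⟨⟨!![v 0, 0; v 1, (v 0)⁻¹], by simp [det_fin_two, h]⟩, ?_⟩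
      ext i; fin_cases i <;> simp
  refine ⟨g, fun h hh => ?_⟩
  set M := g⁻¹ * h * g
  have hM : M.1 *ᵥ ![1, 0] = ![1, 0] := by
    have h1 : h.1 *ᵥ v = v := hv ⟨h, hh⟩
    have h2 : M.1 = (g⁻¹).1 * h.1 * g.1 := rfl
    rw [h2, ← mulVec_mulVec, hg, ← mulVec_mulVec, h1, ← hg, mulVec_mulVec]
    show ((g⁻¹ * g : SpecialLinearGroup (Fin 2) F)).1 *ᵥ _ = _
    simp
  have e0 : M.1 0 0 = 1 := by simpa [mulVec, dotProduct, Fin.sum_univ_two] using congrFun hM 0
  have e1 : M.1 1 0 = 0 := by simpa [mulVec, dotProduct, Fin.sum_univ_two] using congrFun hM 1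
  have hd : M.1.det = 1 := M.2
  rw [det_fin_two, e0, e1, mul_zero, sub_zero, one_mul] at hd
  refine ⟨M.1 0 1, ?_⟩
  ext i j; fin_cases i <;> fin_cases j <;> simp [upper_val, e0, e1, hd]

variable {K : Subgroup (SpecialLinearGroup (Fin 2) F)} (hKp : IsPGroup p K)
  (hK : Nat.card K = Nat.card F)
include hKp hK

theorem isRoot_of_pGroup {P : Subgroup (SpecialLinearGroup (Fin 2) F)} (hP : IsPGroup p P)
    {h : SpecialLinearGroup (Fin 2) F} (hh : h ∈ P) : IsRoot K h := by
  obtain ⟨g, hg⟩ := exists_conj_upper hKp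
  obtain ⟨k, hk⟩ := exists_conj_upper hP
  have hle : K.map (MulAut.conj g⁻¹).toMonoidHom ≤ upperGroup F := by
    rintro _ ⟨x, hx, rfl⟩
    simpa using hg x hx
  have hcard : Nat.card (K.map (MulAut.conj g⁻¹).toMonoidHom) = Nat.card K :=
    (Nat.card_congr (K.equivMapOfInjective _ (MulAut.conj g⁻¹).injective).toEquiv).symm
  have heq : K.map (MulAut.conj g⁻¹).toMonoidHom = upperGroup F :=
    eq_of_le_of_card_ge hle (by rw [hcard, hK]; exact card_upperGroup_le)
  obtain ⟨x, hx, hxe⟩ := heq.ge (hk h hh)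
  refine ⟨k * g⁻¹, ?_⟩
  have : g⁻¹ * x * g = k⁻¹ * h * k := by simpa using hxe
  suffices he : (k * g⁻¹)⁻¹ * h * (k * g⁻¹) = x by rw [he]; exact hx
  calc (k * g⁻¹)⁻¹ * h * (k * g⁻¹) = g * (k⁻¹ * h * k) * g⁻¹ := by group
    _ = x := by rw [← this]; group

theorem isRoot_of_trace {M : SpecialLinearGroup (Fin 2) F} (hM : M.1 0 0 + M.1 1 1 = 2) :
    IsRoot K M := by
  have hd : M.1.det = 1 := M.2
  rw [det_fin_two] at hd
  have hN : (M.1 - 1) * (M.1 - 1) = 0 := by
    ext i j
    fin_cases i <;> fin_cases j <;>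
      simp [SpecialLinearGroup.coe_mul, Matrix.mul_apply, Fin.sum_univ_two]
    · linear_combination (M.1 0 0) * hM - hd
    · linear_combination (M.1 0 1) * hM
    · linear_combination (M.1 1 0) * hM
    · linear_combination (M.1 1 1) * hM - hd
  have hMp : M ^ p = 1 := by
    refine Subtype.ext ((Matrix.SpecialLinearGroup.coe_pow M p).trans ?_)
    show M.1 ^ p = 1
    rw [show M.1 = 1 + (M.1 - 1) by abel, add_pow_char_of_commute p (Commute.one_left _), one_pow,
      ← Nat.sub_add_cancel hp.out.two_le, pow_add, pow_two (M.1 - 1), hN, mul_zero, add_zero]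
  refine isRoot_of_pGroup hKp hK (P := zpowers M) ?_ (mem_zpowers M)
  intro y
  refine ⟨1, Subtype.ext ?_⟩
  obtain ⟨i, hi⟩ := mem_zpowers_iff.1 y.2
  rw [pow_one, SubmonoidClass.coe_pow, ← hi, OneMemClass.coe_one, ← zpow_natCast, ← _root_.zpow_mul,
    mul_comm, _root_.zpow_mul, zpow_natCast, hMp, _root_.one_zpow]

theorem exists_product {x : SpecialLinearGroup (Fin 2) F} (h : x.1 1 0 ≠ 0 ∨ x.1 0 1 ≠ 0) :
    ∃ s t, IsRoot K s ∧ IsRoot K t ∧ x = s * t := by
  rcases h with h | h
  · refine ⟨upper ((x.1 0 0 + x.1 1 1 - 2) / x.1 1 0),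
      upper (-((x.1 0 0 + x.1 1 1 - 2) / x.1 1 0)) * x, isRoot_of_trace hKp hK ?_,
      isRoot_of_trace hKp hK ?_, ?_⟩
    · simp [upper_val]; norm_num
    · simp [upper_val, SpecialLinearGroup.coe_mul, Matrix.mul_apply, Fin.sum_univ_two]; field_simp; ring
    · rw [← mul_assoc, upper_mul, add_neg_cancel]
      ext i j; fin_cases i <;> fin_cases j <;> simp [upper_val, SpecialLinearGroup.coe_mul, Matrix.mul_apply, Fin.sum_univ_two]
  · refine ⟨lower ((x.1 0 0 + x.1 1 1 - 2) / x.1 0 1),
      lower (-((x.1 0 0 + x.1 1 1 - 2) / x.1 0 1)) * x, isRoot_of_trace hKp hK ?_,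
      isRoot_of_trace hKp hK ?_, ?_⟩
    · simp [lower_val]; norm_num
    · simp [lower_val, SpecialLinearGroup.coe_mul, Matrix.mul_apply, Fin.sum_univ_two, Matrix.vecMul, dotProduct]; field_simp; ring
    · ext i j; fin_cases i <;> fin_cases j <;>
        simp [lower_val, SpecialLinearGroup.coe_mul, Matrix.mul_apply, Fin.sum_univ_two, Matrix.vecMul, dotProduct]

theorem good {r : ℕ} (hr : r.Prime) (hrp : r ≠ p) {x : SpecialLinearGroup (Fin 2) F}
    (hx : orderOf x = r) : IsGood p K x := by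
  have hx1 : x ≠ 1 := fun h => by rw [h, orderOf_one] at hx; exact hr.ne_one hx.symm
  by_cases h : x.1 1 0 ≠ 0 ∨ x.1 0 1 ≠ 0
  · exact Or.inl (exists_product hKp hK h)
  push Not at h
  have hd : x.1.det = 1 := x.2
  rw [det_fin_two, h.1, h.2, mul_zero, sub_zero] at hd
  by_cases heq : x.1 0 0 = x.1 1 1
  · have hsq : x.1 0 0 * x.1 0 0 = 1 := by rwa [← heq] at hd
    rcases mul_self_eq_one_iff.1 hsq with h1 | h1
    · refine absurd ?_ hx1
      ext i j; fin_cases i <;> fin_cases j <;> simp [h.1, h.2, ← heq, h1]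
    right
    set z := rot F with hzdef
    obtain ⟨s, t, hs, ht, hz⟩ := exists_product hKp hK (x := z) (Or.inl (by simp [hzdef, rot_val]))
    have hzz : x = z * z := by
      ext i j; fin_cases i <;> fin_cases j <;>
        simp [hzdef, rot_val, SpecialLinearGroup.coe_mul, Matrix.mul_apply, Fin.sum_univ_two, h.1, h.2, ← heq, h1]
    have hu1 : (upper (1 : F))⁻¹ = upper (-1) := by
      refine inv_eq_of_mul_eq_one_right ?_
      rw [upper_mul, add_neg_cancel]
      ext i j; fin_cases i <;> fin_cases j <;> simp [upper_val]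
    have hl : z * upper 1 * z⁻¹ = lower (-1 : F) := by
      rw [mul_inv_eq_iff_eq_mul]
      ext i j; fin_cases i <;> fin_cases j <;>
        simp [hzdef, rot_val, upper_val, lower_val, SpecialLinearGroup.coe_mul, Matrix.mul_apply, Fin.sum_univ_two]
    have hzeq : z = upper (-1 : F) * (lower (-1))⁻¹ * upper (-1) := by
      have : (lower (-1 : F))⁻¹ = lower 1 := by
        refine inv_eq_of_mul_eq_one_right ?_
        ext i j; fin_cases i <;> fin_cases j <;> simp [lower_val, SpecialLinearGroup.coe_mul, Matrix.mul_apply, Fin.sum_univ_two, Matrix.vecMul, dotProduct]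
      rw [this]
      ext i j; fin_cases i <;> fin_cases j <;>
        simp [hzdef, rot_val, upper_val, lower_val, SpecialLinearGroup.coe_mul, Matrix.mul_apply, Fin.sum_univ_two]
    refine ⟨s, t, upper 1, hs, ht, isRoot_of_trace hKp hK (by simp [upper_val]; norm_num),
      by rw [← hz, hzz], ?_, fun g => ?_⟩
    · rw [← hz, hl, hu1]
      refine not_isPGroup_of_mem hr hrp (x := x) ?_ (by rw [hx])
      rw [hzz, hzeq]
      have hU : upper (-1 : F) ∈ closure ({upper (-1), lower (-1)} : Set (SpecialLinearGroup (Fin 2) F)) :=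
        subset_closure (Set.mem_insert _ _)
      have hL : lower (-1 : F) ∈ closure ({upper (-1), lower (-1)} : Set (SpecialLinearGroup (Fin 2) F)) :=
        subset_closure (Set.mem_insert_of_mem _ rfl)
      exact mul_mem (mul_mem (mul_mem hU (inv_mem hL)) hU) (mul_mem (mul_mem hU (inv_mem hL)) hU)
    · show g * x = x * g
      ext i j; fin_cases i <;> fin_cases j <;>
        simp [SpecialLinearGroup.coe_mul, Matrix.mul_apply, Fin.sum_univ_two, h.1, h.2, ← heq, h1, mul_comm]
  · left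
    have hne : (upper 1 * x * upper (-1)).1 0 1 ≠ 0 := by
      simp [upper_val, SpecialLinearGroup.coe_mul, Matrix.mul_apply, Fin.sum_univ_two, h.1, h.2, Matrix.vecMul, dotProduct]
      intro h0; exact heq (by linear_combination -h0)
    obtain ⟨s, t, hs, ht, hst⟩ := exists_product hKp hK (Or.inr hne)
    have hu1 : (upper (1 : F))⁻¹ = upper (-1) := by
      refine inv_eq_of_mul_eq_one_right ?_
      rw [upper_mul, add_neg_cancel]
      ext i j; fin_cases i <;> fin_cases j <;> simp [upper_val]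
    refine ⟨_, _, hs.conj (upper 1)⁻¹, ht.conj (upper 1)⁻¹, ?_⟩
    rw [← hu1] at hst
    calc x = (upper 1)⁻¹ * (upper 1 * x * (upper 1)⁻¹) * upper 1 := by group
      _ = _ := by rw [hst]; group

end SL

end Cfsg.Agent.FrakL82
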